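import Groth.Agent.Lib.RelDiv.Sum
import Groth.Agent.Lib.RelDiv.Cancel
import Groth.Agent.Lib.RelDiv.HilbFun
import Mathlib.AlgebraicGeometry.Morphisms.FlatRank

/-!
Relative divisors on a smooth curve become sums of sections after an fppf base change.
-/

universe u

open CategoryTheory CategoryTheory.Limits AlgebraicGeometry

set_option maxHeartbeats 400000
set_option backward.isDefEq.respectTransparency false

namespace GrothLib.SymHilb26

/-- The base change of a finite locally free closed subscheme. -/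
theorem deg_comap {X S S' : Scheme.{u}} {f : X ⟶ S} {b : S' ⟶ S} {X' : Scheme.{u}} {m : X' ⟶ X} {f' : X' ⟶ S'}
    (H : IsPullback m f' f b) {I : X.IdealSheafData} {d : ℕ}
    (h : Mor2.IsFinLocFreeOfDeg d (I.subschemeι ≫ f)) :
    Mor2.IsFinLocFreeOfDeg d ((I.comap m).subschemeι ≫ f') := by
  have P : IsPullback ((I.comapIso m).hom ≫ pullback.snd _ _) ((I.comap m).subschemeι ≫ f')
      (I.subschemeι ≫ f) b := by
    refine IsPullback.paste_vert ?_ H
    exact IsPullback.of_iso_pullback ⟨by rw [Category.assoc, ← pullback.condition,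
        Scheme.IdealSheafData.comapIso_hom_fst_assoc]⟩
      (I.comapIso m ≪≫ pullbackSymmetry _ _)
      (by rw [Iso.trans_hom, Category.assoc, pullbackSymmetry_hom_comp_fst])
      (by rw [Iso.trans_hom, Category.assoc, pullbackSymmetry_hom_comp_snd]; exact I.comapIso_hom_fst _)
  haveI := h.1.1
  haveI := h.1.2.1
  haveI := h.1.2.2
  exact ⟨⟨MorphismProperty.of_isPullback P h.1.1, MorphismProperty.of_isPullback P h.1.2.1,
    MorphismProperty.of_isPullback P h.1.2.2⟩, fun y => by
      rw [Scheme.Hom.finrank_of_isPullback _ _ _ _ P]; exact h.2 _⟩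

/-- A section of a separated morphism is a closed subscheme of degree one. -/
theorem deg_section {X S : Scheme.{u}} (f : X ⟶ S) [IsSeparated f] (σ : S ⟶ X) (hσ : σ ≫ f = 𝟙 S) :
    IsClosedImmersion σ ∧ Mor2.IsFinLocFreeOfDeg 1 (σ.ker.subschemeι ≫ f) := by
  haveI : IsClosedImmersion (σ ≫ f) := by rw [hσ]; infer_instance
  haveI : IsClosedImmersion σ := IsClosedImmersion.of_comp σ f
  obtain ⟨e, he⟩ := HilbFun.exists_iso_ker σ
  refine ⟨inferInstance, ?_⟩
  have h : σ.ker.subschemeι ≫ f = e.inv := by
    rw [← cancel_epi e.hom, reassoc_of% he, hσ, Iso.hom_inv_id]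
  rw [h]
  exact ⟨⟨inferInstance, inferInstance, inferInstance⟩, fun y => by rw [Scheme.Hom.finrank_eq_one_of_isIso]; rfl⟩

/-- A relative divisor becomes a sum of sections after an fppf base change. -/
theorem exists_split : ∀ (d : ℕ) {X S : Scheme.{u}} (f : X ⟶ S) [SmoothOfRelativeDimension 1 f] [IsSeparated f]
    (I : X.IdealSheafData), Mor2.IsFinLocFreeOfDeg d (I.subschemeι ≫ f) →
    ∃ (S' : Scheme.{u}) (b : S' ⟶ S), Flat b ∧ Surjective b ∧ LocallyOfFinitePresentation b ∧
      ∃ σ : Fin d → (S' ⟶ pullback f b), (∀ i, σ i ≫ pullback.snd f b = 𝟙 S') ∧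
        I.comap (pullback.fst f b) = ∏ i, (σ i).ker
  | 0, X, S, f, _, _, I, h => by
    refine ⟨S, 𝟙 S, inferInstance, inferInstance, inferInstance, fun i => i.elim0, fun i => i.elim0, ?_⟩
    rw [GrothLib.RelDiv.eq_top_of_deg_zero f h, Scheme.IdealSheafData.comap_top]
    simp
  | d + 1, X, S, f, _, _, I, h => by
    let p := I.subschemeι ≫ f
    haveI := h.1.1
    haveI := h.1.2.1
    haveI := h.1.2.2
    haveI hp : Surjective p := (Scheme.Hom.one_le_finrank_iff_surjective p).mp fun s => by
      show 1 ≤ p.finrank s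
      rw [h.2 s]; omega
    let g := pullback.snd f p
    haveI : SmoothOfRelativeDimension 1 g :=
      (smoothOfRelativeDimension_isStableUnderBaseChange 1).of_isPullback (IsPullback.of_hasPullback f p) inferInstance
    let σ₀ : I.subscheme ⟶ pullback f p := pullback.lift I.subschemeι (𝟙 _) (Category.id_comp _).symm
    have hσ₀ : σ₀ ≫ g = 𝟙 _ := pullback.lift_snd _ _ _
    obtain ⟨_, h1⟩ := deg_section g σ₀ hσ₀
    have h2 := deg_comap (IsPullback.of_hasPullback f p) h
    have hle : I.comap (pullback.fst f p) ≤ σ₀.ker := by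
      rw [← Scheme.IdealSheafData.le_map_iff_comap_le, ← Scheme.Hom.ker_comp, pullback.lift_fst,
        Scheme.IdealSheafData.ker_subschemeι]
    obtain ⟨J, hJ, hIJ⟩ := GrothLib.RelDiv.exists_difference g hle h1 h2
    rw [Nat.add_sub_cancel] at hJ
    obtain ⟨S', b', _, _, _, τ, hτ, hτJ⟩ := exists_split d g J hJ
    let e : pullback g b' ≅ pullback f (b' ≫ p) := pullbackLeftPullbackSndIso f p b'
    let τ₀ : S' ⟶ pullback g b' := pullback.lift (b' ≫ σ₀) (𝟙 S') (by simp [g, σ₀])
    have hτ₀ : τ₀ ≫ pullback.snd g b' = 𝟙 S' := pullback.lift_snd _ _ _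
    refine ⟨S', b' ≫ p, inferInstance, inferInstance, inferInstance,
      Fin.cons (τ₀ ≫ e.hom) (fun i => τ i ≫ e.hom), fun i => ?_, ?_⟩
    · induction i using Fin.cases with
      | zero => rw [Fin.cons_zero, Category.assoc, pullbackLeftPullbackSndIso_hom_snd, hτ₀]
      | succ i => rw [Fin.cons_succ, Category.assoc, pullbackLeftPullbackSndIso_hom_snd, hτ i]
    · have hfst : pullback.fst f (b' ≫ p) = e.inv ≫ pullback.fst g b' ≫ pullback.fst f p :=
        (pullbackLeftPullbackSndIso_inv_fst f p b').symm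
      have hsec : (σ₀.ker).comap (pullback.fst g b') = τ₀.ker := by
        refine HilbFun.comap_ker σ₀ (q := b') ?_
        refine IsPullback.of_right ?_ (pullback.lift_fst _ _ _) (IsPullback.of_hasPullback g b').flip
        rw [hτ₀, hσ₀]
        exact IsPullback.of_horiz_isIso ⟨by simp⟩
      have hiso : ∀ (τ : S' ⟶ pullback g b'), τ ≫ pullback.snd g b' = 𝟙 S' →
          τ.ker.comap e.inv = (τ ≫ e.hom).ker := fun τ hτ => by
        haveI := (deg_section (pullback.snd g b') τ hτ).1
        refine HilbFun.comap_ker τ (q := 𝟙 S') ?_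
        exact IsPullback.of_vert_isIso ⟨by simp⟩
      rw [hfst, Scheme.IdealSheafData.comap_comp, Scheme.IdealSheafData.comap_comp, hIJ,
        GrothLib.BlowUp.comap_mul, GrothLib.BlowUp.comap_mul, hsec, hiso τ₀ hτ₀, hτJ]
      rw [Fin.prod_univ_succ, Fin.cons_zero]
      congr 1
      simp only [Fin.cons_succ]
      rw [Finset.prod_congr rfl fun i _ => (hiso (τ i) (hτ i)).symm]
      exact map_prod ({ toFun := fun K => K.comap e.inv
                        map_one' := Scheme.IdealSheafData.comap_top _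
                        map_mul' := fun A B => GrothLib.BlowUp.comap_mul A B e.inv } :
        (pullback g b').IdealSheafData →* (pullback f (b' ≫ p)).IdealSheafData) _ _

end GrothLib.SymHilb26
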