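import Groth.Agent.Lib.SymHilb26.SymGen
import Groth.Agent.Lib.SymHilb26.Split
import Groth.Agent.Lib.SymAF26.CurveQuot
import Groth.Agent.Lib.BlowUp.IdealComap
import Groth.Agent.Lib.BlowUp.EffCartier
import Mathlib.AlgebraicGeometry.Morphisms.Flat

/-!
Descent of the sum of the tautological sections to the symmetric power.
-/

universe u

open CategoryTheory CategoryTheory.Limits AlgebraicGeometry TensorProduct

set_option maxHeartbeats 1000000
set_option backward.isDefEq.respectTransparency false

namespace GrothLib.SymHilb26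

/-- An affine piece of a fibre product. -/
theorem isAffineOpen_inf {X Y S : Scheme.{u}} (f : X ⟶ S) (g : Y ⟶ S) {U : X.Opens} {W : Y.Opens} {V : S.Opens}
    (hU : IsAffineOpen U) (hW : IsAffineOpen W) (hV : IsAffineOpen V) (hUV : U ≤ f ⁻¹ᵁ V) (hWV : W ≤ g ⁻¹ᵁ V) :
    IsAffineOpen (pullback.fst f g ⁻¹ᵁ U ⊓ pullback.snd f g ⁻¹ᵁ W) := by
  haveI : IsAffine U.toScheme := hU
  haveI : IsAffine W.toScheme := hW
  haveI : IsAffine V.toScheme := hV
  haveI : IsAffine (pullback (U.ι ≫ f) (W.ι ≫ g)) := by
    let α := f.resLE V U hUV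
    let β := g.resLE V W hWV
    have hα : α ≫ V.ι = U.ι ≫ f := Scheme.Hom.resLE_comp_ι ..
    have hβ : β ≫ V.ι = W.ι ≫ g := Scheme.Hom.resLE_comp_ι ..
    let m : pullback α β ⟶ pullback (U.ι ≫ f) (W.ι ≫ g) :=
      pullback.lift (pullback.fst _ _) (pullback.snd _ _) (by rw [← hα, ← hβ, pullback.condition_assoc])
    let m' : pullback (U.ι ≫ f) (W.ι ≫ g) ⟶ pullback α β :=
      pullback.lift (pullback.fst _ _) (pullback.snd _ _)
        (by rw [← cancel_mono V.ι, Category.assoc, Category.assoc, hα, hβ, pullback.condition])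
    haveI : IsIso m' := ⟨m, by apply pullback.hom_ext <;> simp [m, m'],
      by apply pullback.hom_ext <;> simp [m, m']⟩
    exact IsAffine.of_isIso m'
  let j : pullback (U.ι ≫ f) (W.ι ≫ g) ⟶ pullback f g :=
    pullback.map _ _ _ _ U.ι W.ι (𝟙 S) (by simp) (by simp)
  have h : j.opensRange = pullback.fst f g ⁻¹ᵁ U ⊓ pullback.snd f g ⁻¹ᵁ W := by
    apply TopologicalSpace.Opens.ext
    simp [j, Scheme.Pullback.range_map]
  exact h ▸ isAffineOpen_opensRange j

/-- Membership in the kernel ideal through `appLE`. -/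
theorem mem_ker_ideal {X Y : Scheme.{u}} (σ : X ⟶ Y) [QuasiCompact σ] (W : Y.affineOpens) (V : X.Opens)
    (e : σ ⁻¹ᵁ W.1 = V) (r : Γ(Y, W.1)) :
    r ∈ σ.ker.ideal W ↔ (σ.appLE W.1 V e.ge).hom r = 0 := by
  subst e
  rw [Scheme.Hom.ker_apply, RingHom.mem_ker, show σ.appLE W.1 (σ ⁻¹ᵁ W.1) le_rfl = σ.app W.1 from
    (Scheme.Hom.app_eq_appLE _).symm]

theorem ideal_prod {X : Scheme.{u}} {ι : Type} (s : Finset ι) (I : ι → X.IdealSheafData) (W : X.affineOpens) :
    (∏ i ∈ s, I i).ideal W = ∏ i ∈ s, (I i).ideal W := by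
  classical
  induction s using Finset.induction_on with
  | empty =>
    rw [Finset.prod_empty, Finset.prod_empty, Ideal.one_eq_top]
    show (⊤ : X.IdealSheafData).ideal W = ⊤
    rw [Scheme.IdealSheafData.ideal_top]
    rfl
  | insert a s ha ih =>
    rw [Finset.prod_insert ha, Finset.prod_insert ha, Scheme.IdealSheafData.ideal_mul, ← ih]
    rfl

variable {C S Y : Scheme.{u}} {f : C ⟶ S} {n : ℕ} {q : SymProd.fibPow f n ⟶ Y} {g : Y ⟶ S}

/-- The quotient map times the curve. -/
noncomputable abbrev qC (hq : SymProd.IsSymProd f n q g) :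
    pullback (WidePullback.base fun _ : Fin n => f) f ⟶ pullback g f :=
  pullback.map (WidePullback.base fun _ : Fin n => f) f g f q (𝟙 C) (𝟙 S)
    ((Category.comp_id _).trans hq.over.symm) ((Category.comp_id f).trans (Category.id_comp f).symm)

/-- The graph of a projection. -/
noncomputable abbrev graph (f : C ⟶ S) (n : ℕ) (i : Fin n) :
    SymProd.fibPow f n ⟶ pullback (WidePullback.base fun _ : Fin n => f) f :=
  pullback.lift (𝟙 (SymProd.fibPow f n)) (WidePullback.π (fun _ : Fin n => f) i)
    ((Category.id_comp _).trans (WidePullback.π_arrow (fun _ : Fin n => f) i).symm)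

theorem isPullback_qC (hq : SymProd.IsSymProd f n q g) :
    IsPullback (pullback.fst (WidePullback.base fun _ : Fin n => f) f) (qC hq) q (pullback.fst g f) := by
  refine IsPullback.of_bot ?_ (pullback.lift_fst _ _ _).symm (IsPullback.of_hasPullback g f)
  rw [pullback.lift_snd, Category.comp_id, hq.over]
  exact IsPullback.of_hasPullback _ _

/-- A permutation of the factors of the fibre power times the curve. -/
noncomputable def permC (f : C ⟶ S) (n : ℕ) (σ : Equiv.Perm (Fin n)) :
    pullback (WidePullback.base fun _ : Fin n => f) f ⟶ pullback (WidePullback.base fun _ : Fin n => f) f :=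
  pullback.lift (pullback.fst _ _ ≫ SymProd.permHom f n σ) (pullback.snd _ _)
    (by rw [Category.assoc, SymProd.permHom_base, pullback.condition])

/-- The permutation action on the fibre power times the curve. -/
noncomputable def permCAct (f : C ⟶ S) (n : ℕ) :
    ULift.{u} (Equiv.Perm (Fin n)) →* Aut (pullback (WidePullback.base fun _ : Fin n => f) f) where
  toFun σ :=
    { hom := permC f n σ.down
      inv := permC f n σ.down⁻¹
      hom_inv_id := by
        apply pullback.hom_ext <;> simp [permC, ← SymProd.permHom_mul, SymProd.permHom_one]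
      inv_hom_id := by
        apply pullback.hom_ext <;> simp [permC, ← SymProd.permHom_mul, SymProd.permHom_one] }
  map_one' := Iso.ext (by
    show permC f n 1 = 𝟙 _
    apply pullback.hom_ext <;> simp [permC, SymProd.permHom_one])
  map_mul' σ τ := Iso.ext (by apply pullback.hom_ext <;> simp [permC, SymProd.permHom_mul, Aut.Aut_mul_def])

theorem isQuot_qC [Flat f] (hq : SymProd.IsSymProd f n q g) : SGA1.IsQuot (permCAct f n) (qC hq) := by
  refine SGA1Quot21.isQuot_baseChange hq.isQuot (isPullback_qC hq) (fun σ => ?_) (fun σ => ?_)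
  · show permC f n σ.down ≫ _ = _
    apply pullback.hom_ext
    · rw [Category.assoc, pullback.lift_fst, permC, pullback.lift_fst_assoc, Category.assoc]
      rw [← SymProd.permActU_hom, hq.isQuot.inv]
    · rw [Category.assoc, pullback.lift_snd, permC, pullback.lift_snd_assoc]
  · show permC f n σ.down ≫ _ = _
    rw [permC, pullback.lift_fst, SymProd.permActU_hom]

/-- The sum of the tautological sections is generated by invariant sections. -/
theorem comap_map_sum [SmoothOfRelativeDimension 1 f] [IsSeparated f] (hAF : SymProd.IsAF f)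
    (hq : SymProd.IsSymProd f n q g) :
    ((∏ i : Fin n, (graph f n i).ker).map (qC hq)).comap (qC hq) = ∏ i : Fin n, (graph f n i).ker := by
  classical
  haveI : Smooth f := SmoothOfRelativeDimension.smooth (n := 1) f
  refine le_antisymm (Scheme.IdealSheafData.comap_map_le _ _) ?_
  let b := WidePullback.base (fun _ : Fin n => f)
  let π := fun i => WidePullback.π (fun _ : Fin n => f) i
  let Dt := ∏ i : Fin n, (graph f n i).ker
  have hQ := isQuot_qC hq
  haveI := hQ.affine
  haveI : SmoothOfRelativeDimension 1 (pullback.fst b f) :=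
    (smoothOfRelativeDimension_isStableUnderBaseChange 1).of_isPullback
      (IsPullback.of_hasPullback b f).flip inferInstance
  have key : ∀ z₀, ∃ W2 : (pullback b f).affineOpens, z₀ ∈ W2.1 ∧
      Dt.ideal W2 ≤ ((Dt.map (qC hq)).comap (qC hq)).ideal W2 := by
    intro z₀
    obtain ⟨V, hV, hsV⟩ : ∃ V : S.Opens, IsAffineOpen V ∧ b (pullback.fst b f z₀) ∈ V := by
      obtain ⟨_, ⟨V, hV, rfl⟩, hsV, -⟩ := S.isBasis_affineOpens.exists_subset_of_mem_open
        (Set.mem_univ (b (pullback.fst b f z₀))) isOpen_univ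
      exact ⟨V, hV, hsV⟩
    obtain ⟨U, hU, hUV, hT⟩ := SymAF26.exists_affine_le hAF hsV
      (insert (pullback.snd b f z₀) (Finset.univ.image fun i => π i (pullback.fst b f z₀)))
      (fun y hy => by
        rcases Finset.mem_insert.mp hy with rfl | hy
        · show f (pullback.snd b f z₀) = b (pullback.fst b f z₀)
          rw [← Scheme.Hom.comp_apply, ← pullback.condition, Scheme.Hom.comp_apply]
        · obtain ⟨i, -, rfl⟩ := Finset.mem_image.mp hy
          exact SymAF26.f_π f n _ i)
    obtain ⟨W', hW'⟩ := SGA1Quot21.exists_opens_preimage hq.isQuot (SymAF26.chart f n U V) fun σ => by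
      rw [SymProd.permActU_hom]; exact SymAF26.preimage_chart f n U V σ.down
    let W := q ⁻¹ᵁ W'
    have hWc : W = SymAF26.chart f n U V := hW'
    have hWa : IsAffineOpen W := hWc ▸ SymAF26.isAffineOpen_chart f n hU hV hUV
    have hW'a : IsAffineOpen W' := SGA1Quot21.isAffineOpen_of_preimage hq.isQuot hWa
    have hW'V : W' ≤ g ⁻¹ᵁ V := SymAF26.le_preimage_of_chart hq hW'
    have hWV : W ≤ b ⁻¹ᵁ V := fun x hx => ((SymAF26.mem_chart f n x).mp (hWc ▸ hx)).1
    have hWπ : ∀ i, W ≤ π i ⁻¹ᵁ U := fun i x hx => ((SymAF26.mem_chart f n x).mp (hWc ▸ hx)).2 i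
    let W2' : (pullback g f).Opens := pullback.fst g f ⁻¹ᵁ W' ⊓ pullback.snd g f ⁻¹ᵁ U
    have hW2'a : IsAffineOpen W2' := isAffineOpen_inf g f hW'a hU hV hW'V hUV
    let W2 : (pullback b f).Opens := qC hq ⁻¹ᵁ W2'
    have hW2a : IsAffineOpen W2 := hW2'a.preimage (qC hq)
    have hW2eq : W2 = pullback.fst b f ⁻¹ᵁ W ⊓ pullback.snd b f ⁻¹ᵁ U := by
      show qC hq ⁻¹ᵁ (pullback.fst g f ⁻¹ᵁ W' ⊓ pullback.snd g f ⁻¹ᵁ U) = _
      rw [Scheme.Hom.preimage_inf, ← Scheme.Hom.comp_preimage, ← Scheme.Hom.comp_preimage, pullback.lift_fst,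
        pullback.lift_snd, Category.comp_id, Scheme.Hom.comp_preimage]
    have hW2W : W2 ≤ pullback.fst b f ⁻¹ᵁ W := hW2eq.le.trans inf_le_left
    have hW2U : W2 ≤ pullback.snd b f ⁻¹ᵁ U := hW2eq.le.trans inf_le_right
    have hW2π : ∀ i, W2 ≤ (pullback.fst b f ≫ π i) ⁻¹ᵁ U := fun i z hz => hWπ i (hW2W hz)
    have hW2V : W2 ≤ (pullback.fst b f ≫ b) ⁻¹ᵁ V := fun z hz => hWV (hW2W hz)
    refine ⟨⟨W2, hW2a⟩, ?_, ?_⟩
    · show z₀ ∈ W2
      rw [hW2eq]
      refine ⟨?_, hT _ (Finset.mem_insert_self _ _)⟩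
      show pullback.fst b f z₀ ∈ W
      rw [hWc, SymAF26.mem_chart]
      exact ⟨hsV, fun i => hT _ (Finset.mem_insert_of_mem (Finset.mem_image_of_mem _ (Finset.mem_univ i)))⟩
    letI : Algebra Γ(S, V) Γ(C, U) := (f.appLE V U hUV).hom.toAlgebra
    haveI : Module.Flat Γ(S, V) Γ(C, U) := f.flat_appLE hV hU hUV
    letI : Algebra Γ(S, V) Γ(SymProd.fibPow f n, W) := (b.appLE V W hWV).hom.toAlgebra
    letI : Algebra Γ(S, V) Γ(pullback b f, W2) := ((pullback.fst b f ≫ b).appLE V W2 hW2V).hom.toAlgebra
    letI : Algebra Γ(C, U) Γ(pullback b f, W2) := ((pullback.snd b f).appLE U W2 hW2U).hom.toAlgebra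
    letI : Algebra Γ(SymProd.fibPow f n, W) Γ(pullback b f, W2) :=
      ((pullback.fst b f).appLE W W2 hW2W).hom.toAlgebra
    haveI : IsScalarTower Γ(S, V) Γ(C, U) Γ(pullback b f, W2) := .of_algebraMap_eq fun r => by
      show _ = ((pullback.snd b f).appLE U W2 hW2U).hom ((f.appLE V U hUV).hom r)
      rw [SymAF26.appLE_comp_apply]
      exact SymAF26.appLE_congr_app pullback.condition V W2 _ r
    haveI : IsScalarTower Γ(S, V) Γ(SymProd.fibPow f n, W) Γ(pullback b f, W2) := .of_algebraMap_eq fun r => by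
      show _ = ((pullback.fst b f).appLE W W2 hW2W).hom ((b.appLE V W hWV).hom r)
      rw [SymAF26.appLE_comp_apply]
      rfl
    haveI hpush : Algebra.IsPushout Γ(S, V) Γ(C, U) Γ(SymProd.fibPow f n, W) Γ(pullback b f, W2) :=
      CommRingCat.isPushout_iff_isPushout.1 ((isIso_pushoutSection_iff (IsPullback.of_hasPullback b f) hUV hWV hW2eq).1
        (isIso_pushoutSection_of_isAffineOpen (IsPullback.of_hasPullback b f) hUV hWV hW2eq hV hU hWa)).flip
    let πa : Fin n → (Γ(C, U) →ₐ[Γ(S, V)] Γ(pullback b f, W2)) := fun i =>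
      { ((pullback.fst b f ≫ π i).appLE U W2 (hW2π i)).hom with
        commutes' := fun r => by
          show ((pullback.fst b f ≫ π i).appLE U W2 (hW2π i)).hom ((f.appLE V U hUV).hom r) = _
          rw [SymAF26.appLE_comp_apply]
          exact SymAF26.appLE_congr_app (by rw [Category.assoc, WidePullback.π_arrow]) V W2 _ r }
    let δ : Fin n → (Γ(C, U) →ₗ[Γ(S, V)] Γ(pullback b f, W2)) := fun i =>
      (IsScalarTower.toAlgHom Γ(S, V) Γ(C, U) Γ(pullback b f, W2)).toLinearMap - (πa i).toLinearMap
    have hδ : ∀ i a, δ i a = ((pullback.snd b f).appLE U W2 hW2U).hom a -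
        ((pullback.fst b f ≫ π i).appLE U W2 (hW2π i)).hom a := fun i a => rfl
    have hpre : ∀ i, graph f n i ⁻¹ᵁ W2 = W := fun i => by
      have h1 : ∀ x, pullback.fst b f (graph f n i x) = x := fun x => by
        rw [← Scheme.Hom.comp_apply, pullback.lift_fst]; rfl
      have h2 : ∀ x, pullback.snd b f (graph f n i x) = π i x := fun x => by
        rw [← Scheme.Hom.comp_apply, pullback.lift_snd]
      ext x
      show graph f n i x ∈ W2 ↔ x ∈ W
      rw [hW2eq]
      show pullback.fst b f (graph f n i x) ∈ W ∧ pullback.snd b f (graph f n i x) ∈ U ↔ x ∈ W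
      rw [h1, h2]
      exact ⟨And.left, fun hx => ⟨hx, hWπ i hx⟩⟩
    haveI : ∀ i, IsClosedImmersion (graph f n i) := fun i =>
      (deg_section (pullback.fst b f) (graph f n i) (pullback.lift_fst _ _ _)).1
    have hσfst : ∀ i (t : Γ(SymProd.fibPow f n, W)), ((graph f n i).appLE W2 W (hpre i).ge).hom
        (((pullback.fst b f).appLE W W2 hW2W).hom t) = t := fun i t => by
      rw [SymAF26.appLE_comp_apply]
      refine (SymAF26.appLE_congr_app (pullback.lift_fst _ _ _) W W _ t).trans ?_
      simp [Scheme.Hom.appLE]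
      erw [CategoryTheory.Functor.map_id]
      rfl
    have hσsnd : ∀ i (a : Γ(C, U)), ((graph f n i).appLE W2 W (hpre i).ge).hom
        (((pullback.snd b f).appLE U W2 hW2U).hom a) = ((π i).appLE U W (hWπ i)).hom a := fun i a => by
      rw [SymAF26.appLE_comp_apply]
      exact SymAF26.appLE_congr_app (pullback.lift_snd _ _ _) U W _ a
    have hfπ : ∀ i (a : Γ(C, U)), ((pullback.fst b f ≫ π i).appLE U W2 (hW2π i)).hom a =
        ((pullback.fst b f).appLE W W2 hW2W).hom (((π i).appLE U W (hWπ i)).hom a) := fun i a => by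
      rw [SymAF26.appLE_comp_apply]
    have hI : ∀ i, (graph f n i).ker.ideal ⟨W2, hW2a⟩ = Ideal.span (Set.range (δ i)) := fun i => by
      refine le_antisymm (fun r hr => ?_) (Ideal.span_le.mpr ?_)
      · let φ := ((graph f n i).appLE W2 W (hpre i).ge).hom
        have hall : ∀ r : Γ(pullback b f, W2),
            r - ((pullback.fst b f).appLE W W2 hW2W).hom (φ r) ∈ Ideal.span (Set.range (δ i)) := by
          intro r
          obtain ⟨w, rfl⟩ := (Algebra.IsPushout.equiv Γ(S, V) Γ(C, U) Γ(SymProd.fibPow f n, W)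
            Γ(pullback b f, W2)).surjective r
          induction w using TensorProduct.induction_on with
          | zero => simp
          | tmul a t =>
            rw [Algebra.IsPushout.equiv_tmul]
            show ((pullback.snd b f).appLE U W2 hW2U).hom a * ((pullback.fst b f).appLE W W2 hW2W).hom t -
              ((pullback.fst b f).appLE W W2 hW2W).hom (φ (((pullback.snd b f).appLE U W2 hW2U).hom a *
                ((pullback.fst b f).appLE W W2 hW2W).hom t)) ∈ _
            rw [map_mul, hσfst, hσsnd, map_mul, ← hfπ, ← sub_mul, ← hδ]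
            exact Ideal.mul_mem_right _ _ (Ideal.subset_span ⟨a, rfl⟩)
          | add u v hu hv =>
            rw [map_add, map_add, map_add, add_sub_add_comm]
            exact add_mem hu hv
        have hr0 : φ r = 0 := (mem_ker_ideal (graph f n i) ⟨W2, hW2a⟩ W (hpre i) r).mp hr
        have := hall r
        rwa [hr0, map_zero, sub_zero] at this
      · rintro _ ⟨a, rfl⟩
        refine (mem_ker_ideal (graph f n i) ⟨W2, hW2a⟩ W (hpre i) _).mpr ?_
        rw [hδ, map_sub, hfπ, hσfst, hσsnd, sub_self]
    have hDt : Dt.ideal ⟨W2, hW2a⟩ = ∏ i, (graph f n i).ker.ideal ⟨W2, hW2a⟩ := ideal_prod _ _ _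
    have hsym : ∀ t ∈ PolLaw.symTensor Γ(S, V) Γ(C, U) n,
        prodLift δ t ∈ ((Dt.map (qC hq)).comap (qC hq)).ideal ⟨W2, hW2a⟩ := by
      intro t ht
      have hmemD : prodLift δ t ∈ Dt.ideal ⟨W2, hW2a⟩ := by
        rw [hDt]
        clear ht
        induction t using PiTensorProduct.induction_on with
        | smul_tprod r a =>
          rw [map_smul, prodLift_tprod, Algebra.smul_def]
          exact Ideal.mul_mem_left _ _ (Ideal.prod_mem_prod fun i _ => (hI i).ge (Ideal.subset_span ⟨_, rfl⟩))
        | add u v hu hv => rw [map_add]; exact add_mem hu hv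
      obtain ⟨y, hy⟩ : prodLift δ t ∈ Set.range ((qC hq).app W2').hom := by
        rw [hQ.range_iff]
        intro σ
        have hle : W2 ≤ permC f n σ.down ⁻¹ᵁ W2 := SGA1.preimage_le_of_inv (permCAct f n) (qC hq) hQ.inv σ W2'
        have hperm : ∀ (i : Fin n) (a : Γ(C, U)), ((permC f n σ.down).appLE W2 W2 hle).hom (δ i a) =
            δ (σ.down.symm i) a := fun i a => by
          rw [hδ, hδ, map_sub, SymAF26.appLE_comp_apply, SymAF26.appLE_comp_apply]
          congr 1
          · exact SymAF26.appLE_congr_app (pullback.lift_snd _ _ _) U W2 _ a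
          · refine SymAF26.appLE_congr_app ?_ U W2 _ a
            rw [permC, pullback.lift_fst_assoc, Category.assoc, SymProd.permHom_π]
        have key : ∀ t : ⨂[Γ(S, V)] _ : Fin n, Γ(C, U), ((permC f n σ.down).appLE W2 W2 hle).hom (prodLift δ t) =
            prodLift δ (PiTensorProduct.reindex Γ(S, V) (fun _ : Fin n => Γ(C, U)) σ.down.symm t) := by
          intro t
          induction t using PiTensorProduct.induction_on with
          | smul_tprod r a =>
            rw [map_smul, Algebra.smul_def, map_mul, prodLift_tprod, map_prod, map_smul, map_smul,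
              PiTensorProduct.reindex_tprod, prodLift_tprod, Algebra.smul_def]
            congr 1
            · show ((permC f n σ.down).appLE W2 W2 hle).hom (((pullback.fst b f ≫ b).appLE V W2 hW2V).hom r) = _
              rw [SymAF26.appLE_comp_apply]
              refine SymAF26.appLE_congr_app ?_ V W2 _ r
              rw [permC, pullback.lift_fst_assoc, Category.assoc, SymProd.permHom_base]
            · refine Fintype.prod_equiv σ.down.symm _ _ fun i => ?_
              rw [hperm]
              exact congrArg _ (congrArg a (σ.down.apply_symm_apply i).symm)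
          | add u v hu hv => rw [map_add, map_add, hu, hv, map_add, map_add]
        show ((permC f n σ.down).appLE W2 W2 hle).hom (prodLift δ t) = prodLift δ t
        rw [key, (PolLaw.mem_symTensor.mp ht) σ.down.symm]
      have hyD : y ∈ (Dt.map (qC hq)).ideal ⟨W2', hW2'a⟩ := by
        rw [Scheme.IdealSheafData.ideal_map_of_isAffineHom, Ideal.mem_comap, hy]
        exact hmemD
      have h := BlowUp.le_ideal_comap (Dt.map (qC hq)) (qC hq) ⟨W2', hW2'a⟩ ⟨W2, hW2a⟩ le_rfl
        (Ideal.mem_map_of_mem _ hyD)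
      rw [Scheme.Hom.appLE_eq_app, hy] at h
      exact h
    intro d hd
    by_contra hdB
    let B := ((Dt.map (qC hq)).comap (qC hq)).ideal ⟨W2, hW2a⟩
    obtain ⟨M, hM, hleM⟩ := Ideal.exists_le_maximal (B.colon ({d} : Set Γ(pullback b f, W2))) fun h => hdB (by
      have := Submodule.mem_colon.mp ((Ideal.eq_top_iff_one _).mp h) d rfl
      rwa [one_smul] at this)
    let p : PrimeSpectrum Γ(pullback b f, W2) := ⟨M, hM.isPrime⟩
    let z : W2 := ⟨hW2a.fromSpec p, hW2a.range_fromSpec.subset ⟨p, rfl⟩⟩
    letI : Algebra Γ(pullback b f, W2) ((pullback b f).presheaf.stalk z.1) :=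
      ((pullback b f).presheaf.germ W2 z.1 z.2).hom.toAlgebra
    haveI hloc : IsLocalization.AtPrime ((pullback b f).presheaf.stalk z.1) M := by
      have h := hW2a.isLocalization_stalk z
      have hp : hW2a.primeIdealOf z = p := hW2a.fromSpec.isOpenEmbedding.injective (by
        rw [hW2a.fromSpec_primeIdealOf])
      rw [hp] at h
      exact h
    letI : Algebra Γ(S, V) ((pullback b f).presheaf.stalk z.1) :=
      ((algebraMap Γ(pullback b f, W2) ((pullback b f).presheaf.stalk z.1)).comp
        (algebraMap Γ(S, V) Γ(pullback b f, W2))).toAlgebra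
    haveI : IsScalarTower Γ(S, V) Γ(pullback b f, W2) ((pullback b f).presheaf.stalk z.1) :=
      .of_algebraMap_eq fun _ => rfl
    let loc := (IsScalarTower.toAlgHom Γ(S, V) Γ(pullback b f, W2) ((pullback b f).presheaf.stalk z.1))
    let δL : Fin n → (Γ(C, U) →ₗ[Γ(S, V)] (pullback b f).presheaf.stalk z.1) := fun i => loc.toLinearMap ∘ₗ δ i
    have hgen : ∀ i, ∃ h ∈ nonZeroDivisors ((pullback b f).presheaf.stalk z.1),
        Ideal.span (Set.range (δL i)) = Ideal.span {h} := by
      intro i
      have hd := deg_section (pullback.fst b f) (graph f n i) (pullback.lift_fst _ _ _)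
      obtain ⟨V₀, hzV₀, hV₀, c, hc, hcI⟩ := BlowUp.exists_cartierOn_le
        (RelDiv.isEffCartierIdeal_of_isFinLocFree (pullback.fst b f) hd.2.1) (W := W2) (x := z.1) z.2
      letI : Algebra Γ(pullback b f, V₀.1) ((pullback b f).presheaf.stalk z.1) :=
        ((pullback b f).presheaf.germ V₀.1 z.1 hzV₀).hom.toAlgebra
      haveI := V₀.2.isLocalization_stalk ⟨z.1, hzV₀⟩
      haveI : Module.Flat Γ(pullback b f, V₀.1) ((pullback b f).presheaf.stalk z.1) :=
        IsLocalization.flat _ (V₀.2.primeIdealOf ⟨z.1, hzV₀⟩).asIdeal.primeCompl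
      refine ⟨algebraMap Γ(pullback b f, V₀.1) _ c, mem_nonZeroDivisors_iff_right.mpr fun x hx => ?_, ?_⟩
      · have hr : IsSMulRegular ((pullback b f).presheaf.stalk z.1)
            (algebraMap Γ(pullback b f, V₀.1) ((pullback b f).presheaf.stalk z.1) c) :=
          IsSMulRegular.of_flat fun a b' hab => mul_cancel_left_mem_nonZeroDivisors hc |>.1 hab
        refine hr ?_
        show _ * x = _ * 0
        rw [mul_zero, mul_comm]
        exact hx
      · have h1 : Ideal.span (Set.range (δL i)) = ((graph f n i).ker.ideal ⟨W2, hW2a⟩).map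
            (algebraMap Γ(pullback b f, W2) _) := by
          rw [hI, Ideal.map_span, ← Set.range_comp]
          rfl
        rw [h1, ← Set.image_singleton, ← Ideal.map_span, ← hcI,
          ← (graph f n i).ker.map_ideal (U := V₀) (V := ⟨W2, hW2a⟩) hV₀, Ideal.map_map]
        congr 1
        exact RingHom.ext fun r => ((pullback b f).presheaf.germ_res_apply (homOfLE hV₀) z.1 hzV₀ r).symm
    choose h hreg hspan using hgen
    obtain ⟨t, ht, hgent⟩ := exists_symm_generator ((pullback b f).presheaf.stalk z.1) δL h hreg hspan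
    have hloct : prodLift δL t = loc (prodLift δ t) := by
      refine LinearMap.congr_fun (PiTensorProduct.ext (MultilinearMap.ext fun a => ?_) :
        prodLift δL = loc.toLinearMap ∘ₗ prodLift δ) t
      simp [δL]
    have hdL : algebraMap Γ(pullback b f, W2) ((pullback b f).presheaf.stalk z.1) d ∈
        B.map (algebraMap Γ(pullback b f, W2) ((pullback b f).presheaf.stalk z.1)) := by
      have h1 := Ideal.mem_map_of_mem (algebraMap Γ(pullback b f, W2) ((pullback b f).presheaf.stalk z.1)) hd
      rw [hDt, ← Ideal.mapHom_apply, map_prod] at h1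
      have h2 : ∀ i, Ideal.mapHom (algebraMap Γ(pullback b f, W2) ((pullback b f).presheaf.stalk z.1))
          ((graph f n i).ker.ideal ⟨W2, hW2a⟩) = Ideal.span {h i} := fun i => by
        rw [Ideal.mapHom_apply, hI, Ideal.map_span, ← Set.range_comp, ← hspan i]
        rfl
      rw [Finset.prod_congr rfl fun i _ => h2 i, Ideal.prod_span_singleton, ← hgent, hloct] at h1
      refine (Ideal.span_le.mpr (Set.singleton_subset_iff.mpr ?_)) h1
      exact Ideal.mem_map_of_mem _ (hsym t ht)
    obtain ⟨m, hm, hmB⟩ := (IsLocalization.algebraMap_mem_map_algebraMap_iff M.primeCompl _ _ _).mp hdL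
    exact hm (hleM (Submodule.mem_colon.mpr fun x hx => by
      rw [Set.mem_singleton_iff.mp hx, smul_eq_mul]; exact hmB))
  choose W hzW hle using key
  exact Scheme.IdealSheafData.le_of_iSup_eq_top W
    (top_unique fun z _ => TopologicalSpace.Opens.mem_iSup.2 ⟨z, hzW z⟩) hle

end GrothLib.SymHilb26
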