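import Groth.Agent.Lib.SymHilb26.Descend
import Groth.Agent.Lib.AlgSp.DegStrata
import Mathlib.RingTheory.Flat.FaithfullyFlat.Algebra

/-!
The descended divisor on the symmetric power.
-/

universe u

open CategoryTheory CategoryTheory.Limits AlgebraicGeometry

set_option maxHeartbeats 1000000
set_option backward.isDefEq.respectTransparency false

namespace GrothLib.SymHilb26

/-- Faithfully flat affine pullback of ideal sheaves is injective. -/
theorem map_comap_of_flat {X Y : Scheme.{u}} (Q : X ⟶ Y) [IsAffineHom Q] [Flat Q] [Surjective Q]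
    (I : Y.IdealSheafData) : (I.comap Q).map Q = I := by
  refine Scheme.IdealSheafData.ext (funext fun U => ?_)
  rw [Scheme.IdealSheafData.ideal_map_of_isAffineHom, BlowUp.ideal_comap_eq_map I Q U ⟨_, U.2.preimage Q⟩ le_rfl,
    Scheme.Hom.appLE_eq_app]
  letI : Algebra Γ(Y, U.1) Γ(X, Q ⁻¹ᵁ U.1) := (Q.app U.1).hom.toAlgebra
  haveI : Flat (Spec.map (Q.app U.1)) := MorphismProperty.of_isPullback (FEt21.isPullback_app Q U.2) ‹Flat Q›
  haveI : Surjective (Spec.map (Q.app U.1)) :=
    MorphismProperty.of_isPullback (FEt21.isPullback_app Q U.2) ‹Surjective Q›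
  haveI : Module.Flat Γ(Y, U.1) Γ(X, Q ⁻¹ᵁ U.1) := (Flat.SpecMap_iff (f := Q.app U.1)).1 inferInstance
  haveI : Module.FaithfullyFlat Γ(Y, U.1) Γ(X, Q ⁻¹ᵁ U.1) :=
    Module.FaithfullyFlat.of_comap_surjective (Surjective.surj (f := Spec.map (Q.app U.1)))
  exact Ideal.comap_map_eq_self_of_faithfullyFlat (A := Γ(Y, U.1)) (B := Γ(X, Q ⁻¹ᵁ U.1)) (I.ideal U)

/-- The empty closed subscheme has degree zero. -/
theorem deg_top {X S : Scheme.{u}} (f : X ⟶ S) :
    Mor2.IsFinLocFreeOfDeg 0 ((⊤ : X.IdealSheafData).subschemeι ≫ f) := by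
  haveI : IsEmpty ↥(⊤ : X.IdealSheafData).subscheme := by
    refine ⟨fun x => ?_⟩
    have h : (⊤ : X.IdealSheafData).subschemeι x ∈ Set.range (⊤ : X.IdealSheafData).subschemeι := ⟨x, rfl⟩
    rw [Scheme.IdealSheafData.range_subschemeι, Scheme.IdealSheafData.support_top] at h
    exact h
  let h := (⊤ : X.IdealSheafData).subschemeι ≫ f
  haveI : IsOpenImmersion h := inferInstance
  haveI : IsClosedImmersion h := IsClosedImmersion.of_isPreimmersion h (by
    rw [Set.range_eq_empty]; exact isClosed_empty)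
  refine ⟨⟨inferInstance, inferInstance, inferInstance⟩, fun y => ?_⟩
  obtain ⟨_, ⟨U, hU, rfl⟩, hyU, -⟩ := S.isBasis_affineOpens.exists_subset_of_mem_open
    (Set.mem_univ y) isOpen_univ
  obtain ⟨p, rfl⟩ : y ∈ Set.range hU.fromSpec := hU.range_fromSpec.symm ▸ hyU
  rw [← Scheme.Hom.finrank_of_isPullback _ _ _ _ (FEt21.isPullback_app h hU) p,
    Scheme.Hom.finrank_SpecMap_eq_finrank (IsFinite.finite_app h U hU) (by rw [Scheme.Hom.app_eq_appLE]; exact HasRingHomProperty.appLE @Flat h inferInstance ⟨U, hU⟩ ⟨_, hU.preimage h⟩ le_rfl)]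
  haveI : Subsingleton Γ((⊤ : X.IdealSheafData).subscheme, h ⁻¹ᵁ U) := by
    rw [show h ⁻¹ᵁ U = ⊥ from TopologicalSpace.Opens.ext (Set.ext fun x => isEmptyElim x)]
    infer_instance
  letI := (h.app U).hom.toAlgebra
  show Module.rankAtStalk Γ((⊤ : X.IdealSheafData).subscheme, h ⁻¹ᵁ U) p = 0
  simp

/-- A sum of sections has the expected degree. -/
theorem deg_prod {X S : Scheme.{u}} (f : X ⟶ S) [SmoothOfRelativeDimension 1 f] [IsSeparated f] {ι : Type}
    (s : Finset ι) (σ : ι → (S ⟶ X)) (hσ : ∀ i, σ i ≫ f = 𝟙 S) :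
    Mor2.IsFinLocFreeOfDeg s.card ((∏ i ∈ s, (σ i).ker).subschemeι ≫ f) := by
  classical
  induction s using Finset.induction_on with
  | empty =>
    rw [Finset.prod_empty, Finset.card_empty]
    exact deg_top f
  | insert a s ha ih =>
    rw [Finset.prod_insert ha, Finset.card_insert_of_notMem ha, add_comm]
    exact RelDiv.isFinLocFreeOfDeg_mul f (deg_section f (σ a) (hσ a)).2 ih

variable {C S Y : Scheme.{u}} {f : C ⟶ S} {n : ℕ} {q : SymProd.fibPow f n ⟶ Y} {g : Y ⟶ S}

/-- Descent of the sum of the tautological sections. -/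
theorem descended_divisor [IsLocallyNoetherian S] [IsProper f] [SmoothOfRelativeDimension 1 f]
    (hAF : SymProd.IsAF f) (hq : SymProd.IsSymProd f n q g) :
    (∃! J : (pullback g f).IdealSheafData, J.comap (qC hq) = ∏ i : Fin n, (graph f n i).ker) ∧
    ∀ J : (pullback g f).IdealSheafData, J.comap (qC hq) = ∏ i : Fin n, (graph f n i).ker →
      Mor2.IsFinLocFreeOfDeg n (J.subschemeι ≫ pullback.fst g f) := by
  obtain ⟨hqfin, hqflat, hqlfp, -⟩ := SymAF26.isFinLocFree_quot hAF hq
  haveI : Surjective q := ⟨SGA1Quot21.surjective hq.isQuot⟩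
  have hsq := isPullback_qC hq
  haveI : IsFinite (qC hq) := MorphismProperty.of_isPullback hsq hqfin
  haveI : Flat (qC hq) := MorphismProperty.of_isPullback hsq hqflat
  haveI : Surjective (qC hq) := MorphismProperty.of_isPullback hsq ‹Surjective q›
  let b := WidePullback.base (fun _ : Fin n => f)
  haveI : SmoothOfRelativeDimension 1 (pullback.fst b f) :=
    (smoothOfRelativeDimension_isStableUnderBaseChange 1).of_isPullback
      (IsPullback.of_hasPullback b f).flip inferInstance
  refine ⟨⟨(∏ i : Fin n, (graph f n i).ker).map (qC hq), comap_map_sum hAF hq, fun J hJ => ?_⟩, fun J hJ => ?_⟩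
  · rw [← hJ, map_comap_of_flat]
  · have hdeg := deg_prod (pullback.fst b f) Finset.univ (graph f n) (fun i => pullback.lift_fst _ _ _)
    rw [Finset.card_univ, Fintype.card_fin, ← hJ] at hdeg
    have P : IsPullback ((J.comapIso (qC hq)).hom ≫ pullback.snd _ _)
        ((J.comap (qC hq)).subschemeι ≫ pullback.fst b f) (J.subschemeι ≫ pullback.fst g f) q := by
      refine IsPullback.paste_vert ?_ hsq.flip
      exact IsPullback.of_iso_pullback ⟨by rw [Category.assoc, ← pullback.condition,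
          Scheme.IdealSheafData.comapIso_hom_fst_assoc]⟩
        (J.comapIso (qC hq) ≪≫ pullbackSymmetry _ _)
        (by rw [Iso.trans_hom, Category.assoc, pullbackSymmetry_hom_comp_fst])
        (by rw [Iso.trans_hom, Category.assoc, pullbackSymmetry_hom_comp_snd]; exact J.comapIso_hom_fst _)
    exact AlgSp.fppfDescends_finLocFreeOfDeg n _ _ _ _ P hqflat hqlfp ‹Surjective q› hdeg

end GrothLib.SymHilb26
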