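import Groth.Agent.Lib.SymHilb26.Charpoly
import Groth.Agent.Lib.SymHilb26.Universal
import Groth.Agent.Lib.RLpsi8.GluePoint
import Groth.Agent.Lib.PolLaw.ElemSymm
import Mathlib.RingTheory.Polynomial.Vieta

/-!
Two tuples of points with the same sum of graphs have the same image in the symmetric power.
-/

universe u

open CategoryTheory CategoryTheory.Limits AlgebraicGeometry TensorProduct

set_option maxHeartbeats 1000000
set_option backward.isDefEq.respectTransparency false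

namespace GrothLib.SymHilb26

theorem isLocalRing_globalSections {B : Type u} [CommRing B] [IsLocalRing B] :
    IsLocalRing Γ(Spec (CommRingCat.of B), ⊤) :=
  (Scheme.ΓSpecIso (CommRingCat.of B)).symm.commRingCatIsoToRingEquiv.isLocalRing

/-- An open subset containing the closed point of a local scheme is everything. -/
theorem eq_top_of_closedPoint {B : Type u} [CommRing B] [IsLocalRing B] (V : (Spec (CommRingCat.of B)).Opens)
    (h : IsLocalRing.closedPoint B ∈ V) : V = ⊤ :=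
  IsLocalRing.closedPoint_mem_iff V |>.mp h

/-- A finite flat closed subscheme of a scheme over a local scheme has free sections. -/
theorem free_quotient {X : Scheme.{u}} {B : Type u} [CommRing B] [IsLocalRing B]
    (g : X ⟶ Spec (CommRingCat.of B)) (I : X.IdealSheafData) {d : ℕ}
    (h : Mor2.IsFinLocFreeOfDeg d (I.subschemeι ≫ g)) (W : X.affineOpens) (hW : I.subschemeι ⁻¹ᵁ W.1 = ⊤) :
    letI : Algebra Γ(Spec (CommRingCat.of B), ⊤) Γ(X, W.1) := (g.appLE ⊤ W.1 le_top).hom.toAlgebra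
    Module.Free Γ(Spec (CommRingCat.of B), ⊤) (Γ(X, W.1) ⧸ I.ideal W) ∧
      Module.Finite Γ(Spec (CommRingCat.of B), ⊤) (Γ(X, W.1) ⧸ I.ideal W) ∧
      Module.finrank Γ(Spec (CommRingCat.of B), ⊤) (Γ(X, W.1) ⧸ I.ideal W) = d := by
  let Z := Spec (CommRingCat.of B)
  letI : Algebra Γ(Z, ⊤) Γ(X, W.1) := (g.appLE ⊤ W.1 le_top).hom.toAlgebra
  haveI := h.1.1
  haveI := h.1.2.1
  let k := I.subschemeι ≫ g
  have hZ : IsAffineOpen (⊤ : Z.Opens) := isAffineOpen_top Z
  let ψ : Γ(I.subscheme, k ⁻¹ᵁ ⊤) ≅ CommRingCat.of (Γ(X, W.1) ⧸ I.ideal W) :=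
    I.subscheme.presheaf.mapIso (eqToIso (show I.subschemeι ⁻¹ᵁ W.1 = k ⁻¹ᵁ ⊤ from hW.trans rfl)).op ≪≫
      I.subschemeObjIso W
  letI : Algebra Γ(Z, ⊤) Γ(I.subscheme, k ⁻¹ᵁ ⊤) := (k.app ⊤).hom.toAlgebra
  have hcomp : k.app ⊤ ≫ ψ.hom =
      g.appLE ⊤ W.1 le_top ≫ CommRingCat.ofHom (Ideal.Quotient.mk (I.ideal W)) := by
    have h1 : k.appLE ⊤ (I.subschemeι ⁻¹ᵁ W.1) (hW.le.trans (le_of_eq rfl)) =
        g.appLE ⊤ W.1 le_top ≫ I.subschemeι.app W.1 := by
      rw [Scheme.Hom.app_eq_appLE, Scheme.Hom.appLE_comp_appLE]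
    have h2 : I.subschemeι.app W.1 ≫ (I.subschemeObjIso W).hom = CommRingCat.ofHom (Ideal.Quotient.mk (I.ideal W)) := by
      rw [Scheme.IdealSheafData.subschemeι_app, Category.assoc, Iso.inv_hom_id, Category.comp_id]
    show k.app ⊤ ≫ (I.subscheme.presheaf.map _ ≫ (I.subschemeObjIso W).hom) = _
    rw [← h2, ← Category.assoc, ← Category.assoc, ← h1]
    rfl
  let e : Γ(I.subscheme, k ⁻¹ᵁ ⊤) ≃ₗ[Γ(Z, ⊤)] (Γ(X, W.1) ⧸ I.ideal W) :=
    { ψ.commRingCatIsoToRingEquiv.toAddEquiv with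
      map_smul' := fun r x => by
        show ψ.hom.hom (((k.app ⊤).hom r) * x) = _
        rw [map_mul]
        have := DFunLike.congr_fun (congrArg CommRingCat.Hom.hom hcomp) r
        exact congrArg (· * ψ.hom.hom x) this }
  haveI := isLocalRing_globalSections (B := B)
  haveI : Module.Finite Γ(Z, ⊤) Γ(I.subscheme, k ⁻¹ᵁ ⊤) := IsFinite.finite_app k ⊤ hZ
  have hflat : (k.app ⊤).hom.Flat := by
    rw [Scheme.Hom.app_eq_appLE]
    exact HasRingHomProperty.appLE @Flat k inferInstance ⟨⊤, hZ⟩ ⟨_, hZ.preimage k⟩ le_rfl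
  haveI : Module.Flat Γ(Z, ⊤) Γ(I.subscheme, k ⁻¹ᵁ ⊤) := hflat
  haveI : Module.Free Γ(Z, ⊤) Γ(I.subscheme, k ⁻¹ᵁ ⊤) := Module.free_of_flat_of_isLocalRing
  refine ⟨Module.Free.of_equiv e, Module.Finite.equiv e, ?_⟩
  rw [← e.finrank_eq]
  let p : PrimeSpectrum Γ(Z, ⊤) := IsLocalRing.closedPoint _
  have h1 : (k.app ⊤).hom.finrank p = d := by
    rw [← Scheme.Hom.finrank_SpecMap_eq_finrank (IsFinite.finite_app k ⊤ hZ) hflat,
      Scheme.Hom.finrank_of_isPullback _ _ _ _ (FEt21.isPullback_app k hZ) p]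
    exact h.2 _
  have h2 : Module.rankAtStalk Γ(I.subscheme, k ⁻¹ᵁ ⊤) p = d := h1
  rwa [Module.rankAtStalk_eq_finrank_of_free] at h2

variable {C S Y : Scheme.{u}} {f : C ⟶ S} {n : ℕ} {q : SymProd.fibPow f n ⟶ Y} {g : Y ⟶ S}

/-- Inverse image of a product of ideal sheaves. -/
theorem comap_prod {X X' : Scheme.{u}} (m : X' ⟶ X) {ι : Type} (s : Finset ι) (I : ι → X.IdealSheafData) :
    (∏ i ∈ s, I i).comap m = ∏ i ∈ s, (I i).comap m :=
  map_prod ({ toFun := fun K => K.comap m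
              map_one' := Scheme.IdealSheafData.comap_top _
              map_mul' := fun A B => GrothLib.BlowUp.comap_mul A B m } : X.IdealSheafData →* X'.IdealSheafData) _ _

/-- Base change of a sum of graphs. -/
theorem pull_prod_secGraph [IsSeparated f] {T T' : Over S} (u : T' ⟶ T) (x : Fin n → (T.left ⟶ C))
    (hx : ∀ i, x i ≫ f = T.hom) :
    HilbD.pull f u (∏ i, HilbD.secGraph f T (x i) (hx i)) =
      ∏ i, HilbD.secGraph f T' (u.left ≫ x i) (by rw [Category.assoc, hx, Over.w u]) := by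
  rw [HilbFun.pull_eq_comap, comap_prod]
  refine Finset.prod_congr rfl fun i _ => ?_
  rw [← HilbFun.pull_eq_comap, HilbFun.pull_secGraph]

/-- Over a local scheme the sum of the graphs determines the image in the symmetric power. -/
theorem quot_eq_local [SmoothOfRelativeDimension 1 f] [IsSeparated f] (hAF : SymProd.IsAF f)
    (hq : SymProd.IsSymProd f n q g) {B : Type u} [CommRing B] [IsLocalRing B] (t : Spec (CommRingCat.of B) ⟶ S)
    (x x' : Fin n → (Spec (CommRingCat.of B) ⟶ C)) (hx : ∀ i, x i ≫ f = t) (hx' : ∀ i, x' i ≫ f = t)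
    (heq : ∏ i, HilbD.secGraph f (Over.mk t) (x i) (hx i) = ∏ i, HilbD.secGraph f (Over.mk t) (x' i) (hx' i)) :
    WidePullback.lift t x hx ≫ q = WidePullback.lift t x' hx' ≫ q := by
  classical
  haveI : Smooth f := SmoothOfRelativeDimension.smooth (n := 1) f
  let Z := Spec (CommRingCat.of B)
  let m : Z := IsLocalRing.closedPoint B
  haveI hloc := isLocalRing_globalSections (B := B)
  obtain ⟨V, hV, hmV⟩ : ∃ V : S.Opens, IsAffineOpen V ∧ t m ∈ V := by
    obtain ⟨_, ⟨V, hV, rfl⟩, hmV, -⟩ := S.isBasis_affineOpens.exists_subset_of_mem_open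
      (Set.mem_univ (t m)) isOpen_univ
    exact ⟨V, hV, hmV⟩
  obtain ⟨U, hU, hUV, hT⟩ := SymAF26.exists_affine_le hAF hmV
    ((Finset.univ.image fun i => x i m) ∪ (Finset.univ.image fun i => x' i m)) (fun y hy => by
      rcases Finset.mem_union.mp hy with hy | hy
      · obtain ⟨i, -, rfl⟩ := Finset.mem_image.mp hy
        show f (x i m) = t m
        rw [← Scheme.Hom.comp_apply, hx]
      · obtain ⟨i, -, rfl⟩ := Finset.mem_image.mp hy
        show f (x' i m) = t m
        rw [← Scheme.Hom.comp_apply, hx'])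
  have htV : (⊤ : Z.Opens) ≤ t ⁻¹ᵁ V := (eq_top_of_closedPoint _ hmV).ge
  have hxU : ∀ i, (⊤ : Z.Opens) ≤ x i ⁻¹ᵁ U := fun i => (eq_top_of_closedPoint _
    (hT _ (Finset.mem_union_left _ (Finset.mem_image_of_mem _ (Finset.mem_univ i))))).ge
  have hx'U : ∀ i, (⊤ : Z.Opens) ≤ x' i ⁻¹ᵁ U := fun i => (eq_top_of_closedPoint _
    (hT _ (Finset.mem_union_right _ (Finset.mem_image_of_mem _ (Finset.mem_univ i))))).ge
  letI : Algebra Γ(S, V) Γ(C, U) := (f.appLE V U hUV).hom.toAlgebra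
  haveI : Module.Flat Γ(S, V) Γ(C, U) := f.flat_appLE hV hU hUV
  letI : Algebra Γ(S, V) Γ(Z, ⊤) := (t.appLE V ⊤ htV).hom.toAlgebra
  let ev : (y : Fin n → (Z ⟶ C)) → (∀ i, y i ≫ f = t) → (∀ i, (⊤ : Z.Opens) ≤ y i ⁻¹ᵁ U) →
      Fin n → (Γ(C, U) →ₐ[Γ(S, V)] Γ(Z, ⊤)) := fun y hy hyU i =>
    { ((y i).appLE U ⊤ (hyU i)).hom with
      commutes' := fun r => by
        show ((y i).appLE U ⊤ (hyU i)).hom ((f.appLE V U hUV).hom r) = (t.appLE V ⊤ htV).hom r
        rw [SymAF26.appLE_comp_apply]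
        exact SymAF26.appLE_congr_app (hy i) V ⊤ _ r }
  have hpoly : ∀ a : Γ(C, U), ∏ i, (Polynomial.X - Polynomial.C (ev x hx hxU i a)) =
      ∏ i, (Polynomial.X - Polynomial.C (ev x' hx' hx'U i a)) := by
    let ft := pullback.snd f t
    haveI : SmoothOfRelativeDimension 1 ft :=
      (smoothOfRelativeDimension_isStableUnderBaseChange 1).of_isPullback (IsPullback.of_hasPullback f t) inferInstance
    let W2 : (pullback f t).Opens := pullback.fst f t ⁻¹ᵁ U
    have hW2a : IsAffineOpen W2 := by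
      have h := isAffineOpen_inf f t hU (isAffineOpen_top Z) hV hUV htV
      rwa [Scheme.Hom.preimage_top, inf_top_eq] at h
    letI : Algebra Γ(Z, ⊤) Γ(pullback f t, W2) := (ft.appLE ⊤ W2 le_top).hom.toAlgebra
    have side : ∀ (y : Fin n → (Z ⟶ C)) (hy : ∀ i, y i ≫ f = t) (hyU : ∀ i, (⊤ : Z.Opens) ≤ y i ⁻¹ᵁ U),
        ∃ e : Fin n → (Γ(pullback f t, W2) →ₐ[Γ(Z, ⊤)] Γ(Z, ⊤)),
          (∀ i a, e i (((pullback.fst f t).appLE U W2 le_rfl).hom a) = ev y hy hyU i a) ∧
          (∏ i, HilbD.secGraph f (Over.mk t) (y i) (hy i)).ideal ⟨W2, hW2a⟩ = ∏ i, RingHom.ker (e i) ∧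
          ∀ s : Finset (Fin n), Module.Free Γ(Z, ⊤) (Γ(pullback f t, W2) ⧸ ∏ i ∈ s, RingHom.ker (e i)) ∧
            Module.Finite Γ(Z, ⊤) (Γ(pullback f t, W2) ⧸ ∏ i ∈ s, RingHom.ker (e i)) ∧
            Module.finrank Γ(Z, ⊤) (Γ(pullback f t, W2) ⧸ ∏ i ∈ s, RingHom.ker (e i)) = s.card := by
      intro y hy hyU
      let σ : Fin n → (Z ⟶ pullback f t) := fun i => pullback.lift (y i) (𝟙 Z) (by rw [hy, Category.id_comp])
      have hσft : ∀ i, σ i ≫ ft = 𝟙 Z := fun i => pullback.lift_snd _ _ _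
      haveI : ∀ i, IsClosedImmersion (σ i) := fun i => (deg_section ft (σ i) (hσft i)).1
      have hσW : ∀ i, σ i ⁻¹ᵁ W2 = ⊤ := fun i => by
        rw [← Scheme.Hom.comp_preimage, pullback.lift_fst]
        exact top_le_iff.mp (hyU i)
      let e : Fin n → (Γ(pullback f t, W2) →ₐ[Γ(Z, ⊤)] Γ(Z, ⊤)) := fun i =>
        { ((σ i).appLE W2 ⊤ (hσW i).ge).hom with
          commutes' := fun r => by
            show ((σ i).appLE W2 ⊤ _).hom ((ft.appLE ⊤ W2 le_top).hom r) = r
            rw [SymAF26.appLE_comp_apply]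
            refine (SymAF26.appLE_congr_app (hσft i) ⊤ ⊤ _ r).trans ?_
            simp [Scheme.Hom.appLE]
            rfl }
      have hker : ∀ i, (σ i).ker.ideal ⟨W2, hW2a⟩ = RingHom.ker (e i) := fun i => Ideal.ext fun r => by
        rw [mem_ker_ideal (σ i) ⟨W2, hW2a⟩ ⊤ (hσW i) r, RingHom.mem_ker]
        rfl
      refine ⟨e, fun i a => ?_, ?_, fun s => ?_⟩
      · show ((σ i).appLE W2 ⊤ _).hom (((pullback.fst f t).appLE U W2 le_rfl).hom a) = _
        rw [SymAF26.appLE_comp_apply]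
        exact SymAF26.appLE_congr_app (pullback.lift_fst _ _ _) U ⊤ _ a
      · show (∏ i, (σ i).ker).ideal ⟨W2, hW2a⟩ = _
        rw [ideal_prod]
        exact Finset.prod_congr rfl fun i _ => hker i
      · have hs : ∏ i ∈ s, RingHom.ker (e i) = (∏ i ∈ s, (σ i).ker).ideal ⟨W2, hW2a⟩ := by
          rw [ideal_prod]
          exact Finset.prod_congr rfl fun i _ => (hker i).symm
        have hsupp : ∀ s : Finset (Fin n), ((∏ i ∈ s, (σ i).ker).support : Set ↥(pullback f t)) ⊆ W2 := by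
          intro s
          induction s using Finset.induction_on with
          | empty =>
            rw [Finset.prod_empty]
            show ((⊤ : (pullback f t).IdealSheafData).support : Set ↥(pullback f t)) ⊆ W2
            rw [Scheme.IdealSheafData.support_top]
            exact Set.empty_subset _
          | insert a s ha ih =>
            rw [Finset.prod_insert ha, Scheme.IdealSheafData.support_mul]
            refine Set.union_subset ?_ ih
            rw [Scheme.Hom.support_ker]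
            show closure (Set.range (σ a)) ⊆ _
            rw [(σ a).isClosedEmbedding.isClosed_range.closure_eq]
            rintro _ ⟨z, rfl⟩
            exact (hσW a).ge (Set.mem_univ z : z ∈ (⊤ : Z.Opens))
        rw [hs]
        refine free_quotient ft _ (deg_prod ft s σ hσft) ⟨W2, hW2a⟩ ?_
        exact top_le_iff.mp fun z _ => hsupp s (by rw [← Scheme.IdealSheafData.range_subschemeι]; exact ⟨z, rfl⟩)
    obtain ⟨e, he, hI, hfree⟩ := side x hx hxU
    obtain ⟨e', he', hI', hfree'⟩ := side x' hx' hx'U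
    intro a
    let a' := ((pullback.fst f t).appLE U W2 le_rfl).hom a
    have h1 := charpoly_prod e hfree a' Finset.univ
    have h2 := charpoly_prod e' hfree' a' Finset.univ
    simp only [a', he] at h1
    simp only [a', he'] at h2
    rw [← h1, ← h2]
    have hII : ∏ i, RingHom.ker (e i) = ∏ i, RingHom.ker (e' i) := by rw [← hI, ← hI', heq]
    have key : ∀ (K K' : Ideal Γ(pullback f t, W2)), K = K' →
        ∀ (_ : Module.Free Γ(Z, ⊤) (Γ(pullback f t, W2) ⧸ K)) (_ : Module.Finite Γ(Z, ⊤) (Γ(pullback f t, W2) ⧸ K))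
          (_ : Module.Free Γ(Z, ⊤) (Γ(pullback f t, W2) ⧸ K')) (_ : Module.Finite Γ(Z, ⊤) (Γ(pullback f t, W2) ⧸ K')),
        (Algebra.lmul Γ(Z, ⊤) (Γ(pullback f t, W2) ⧸ K) (Ideal.Quotient.mk K a')).charpoly =
          (Algebra.lmul Γ(Z, ⊤) (Γ(pullback f t, W2) ⧸ K') (Ideal.Quotient.mk K' a')).charpoly := by
      rintro K _ rfl _ _ _ _; rfl
    exact key _ _ hII (hfree Finset.univ).1 (hfree Finset.univ).2.1 (hfree' Finset.univ).1 (hfree' Finset.univ).2.1
  obtain ⟨W', hW'⟩ := SGA1Quot21.exists_opens_preimage hq.isQuot (SymAF26.chart f n U V) fun σ => by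
    rw [SymProd.permActU_hom]; exact SymAF26.preimage_chart f n U V σ.down
  let W := q ⁻¹ᵁ W'
  have hWc : W = SymAF26.chart f n U V := hW'
  have hWa : IsAffineOpen W := hWc ▸ SymAF26.isAffineOpen_chart f n hU hV hUV
  have hW'a : IsAffineOpen W' := SGA1Quot21.isAffineOpen_of_preimage hq.isQuot hWa
  have hWσ : ∀ σ, W ≤ SymProd.permHom f n σ ⁻¹ᵁ W := fun σ => by
    rw [hWc]; exact (SymAF26.preimage_chart f n U V σ).ge
  have hWV : W ≤ (WidePullback.base fun _ : Fin n => f) ⁻¹ᵁ V := fun z hz =>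
    ((SymAF26.mem_chart f n z).mp (hWc ▸ hz)).1
  have hWU : ∀ i, W ≤ WidePullback.π (fun _ : Fin n => f) i ⁻¹ᵁ U := fun i z hz =>
    ((SymAF26.mem_chart f n z).mp (hWc ▸ hz)).2 i
  letI : Algebra Γ(S, V) Γ(SymProd.fibPow f n, W) :=
    ((WidePullback.base fun _ : Fin n => f).appLE V W hWV).hom.toAlgebra
  obtain ⟨ε, hεt, hεσ⟩ := SymAF26.exists_tensor_equiv hU hV hUV hWc hWa hWV hWU hWσ
  obtain ⟨-, hrange⟩ := SymAF26.quot_sections hq W' rfl hWσ
  have hmemW : ∀ (y : Fin n → (Z ⟶ C)) (hy : ∀ i, y i ≫ f = t), (∀ i, (⊤ : Z.Opens) ≤ y i ⁻¹ᵁ U) →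
      (⊤ : Z.Opens) ≤ WidePullback.lift t y hy ⁻¹ᵁ W := fun y hy hyU z _ => by
    show WidePullback.lift t y hy z ∈ W
    rw [hWc, SymAF26.mem_chart]
    refine ⟨?_, fun i => ?_⟩
    · show (WidePullback.base fun _ : Fin n => f) (WidePullback.lift t y hy z) ∈ V
      rw [← Scheme.Hom.comp_apply, WidePullback.lift_base]
      exact htV (Set.mem_univ z)
    · show (WidePullback.π (fun _ : Fin n => f) i) (WidePullback.lift t y hy z) ∈ U
      rw [← Scheme.Hom.comp_apply, WidePullback.lift_π]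
      exact hyU i (Set.mem_univ z)
  let Φ : (y : Fin n → (Z ⟶ C)) → (hy : ∀ i, y i ≫ f = t) → (∀ i, (⊤ : Z.Opens) ≤ y i ⁻¹ᵁ U) →
      ((⨂[Γ(S, V)] _ : Fin n, Γ(C, U)) →ₐ[Γ(S, V)] Γ(Z, ⊤)) := fun y hy hyU =>
    { ((WidePullback.lift t y hy).appLE W ⊤ (hmemW y hy hyU)).hom.comp ε.toRingEquiv.toRingHom with
      commutes' := fun r => by
        show ((WidePullback.lift t y hy).appLE W ⊤ _).hom (ε (algebraMap _ _ r)) = (t.appLE V ⊤ htV).hom r
        rw [AlgEquiv.commutes]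
        show ((WidePullback.lift t y hy).appLE W ⊤ _).hom
          (((WidePullback.base fun _ : Fin n => f).appLE V W hWV).hom r) = _
        rw [SymAF26.appLE_comp_apply]
        exact SymAF26.appLE_congr_app (WidePullback.lift_base _ _ _ _) V ⊤ _ r }
  have hΦt : ∀ y hy hyU (a : Fin n → Γ(C, U)), Φ y hy hyU (PiTensorProduct.tprod _ a) = ∏ i, ev y hy hyU i (a i) := by
    intro y hy hyU a
    show ((WidePullback.lift t y hy).appLE W ⊤ _).hom (ε (PiTensorProduct.tprod _ a)) = _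
    rw [hεt, map_prod]
    refine Finset.prod_congr rfl fun i _ => ?_
    rw [SymAF26.appLE_comp_apply]
    exact SymAF26.appLE_congr_app (WidePullback.lift_π _ _ _ _ i :
      WidePullback.lift t y hy ≫ WidePullback.π (fun _ : Fin n => f) i = y i) U ⊤ _ (a i)
  have hTS : ∀ τ ∈ SymTen.TS Γ(S, V) Γ(C, U) n, Φ x hx hxU τ = Φ x' hx' hx'U τ := by
    rw [PolLaw.TS_eq_adjoin_elemGens]
    intro τ hτ
    refine (Algebra.adjoin_le (S := AlgHom.equalizer (Φ x hx hxU) (Φ x' hx' hx'U)) ?_) hτ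
    rintro _ ⟨a, j, rfl⟩
    show Φ x hx hxU _ = Φ x' hx' hx'U _
    have hI : ∀ (y : Fin n → (Z ⟶ C)) (hy : ∀ i, y i ≫ f = t) (hyU : ∀ i, (⊤ : Z.Opens) ≤ y i ⁻¹ᵁ U), Φ y hy hyU (∑ I ∈ (Finset.univ : Finset (Fin n)).powersetCard j,
        PiTensorProduct.tprod Γ(S, V) (fun i : Fin n => if i ∈ I then a else (1 : Γ(C, U)))) =
          ∑ I ∈ (Finset.univ : Finset (Fin n)).powersetCard j, ∏ i ∈ I, ev y hy hyU i a := by
      intro y hy hyU
      rw [map_sum]
      refine Finset.sum_congr rfl fun I _ => ?_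
      rw [hΦt y hy hyU]
      simp [apply_ite]
    rw [hI x hx hxU, hI x' hx' hx'U]
    rcases Nat.lt_or_ge n j with hj | hj
    · rw [Finset.powersetCard_eq_empty.mpr (by simpa using hj)]; simp
    · have h := congrArg (fun p => Polynomial.coeff p (n - j)) (hpoly (-a))
      simp only [map_neg, sub_neg_eq_add] at h
      rw [Finset.prod_X_add_C_coeff _ _ (by simp), Finset.prod_X_add_C_coeff _ _ (by simp), Finset.card_univ,
        Fintype.card_fin, Nat.sub_sub_self hj] at h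
      exact h
  have hqW : ∀ y hy hyU, (⊤ : Z.Opens) ≤ (WidePullback.lift t y hy ≫ q) ⁻¹ᵁ W' := fun y hy hyU =>
    hmemW y hy hyU
  have happ : (WidePullback.lift t x hx ≫ q).appLE W' ⊤ (hqW x hx hxU) =
      (WidePullback.lift t x' hx' ≫ q).appLE W' ⊤ (hqW x' hx' hx'U) := by
    refine CommRingCat.hom_ext (RingHom.ext fun z => ?_)
    rw [← Scheme.Hom.appLE_comp_appLE _ q W' W ⊤ le_rfl (hmemW x hx hxU),
      ← Scheme.Hom.appLE_comp_appLE _ q W' W ⊤ le_rfl (hmemW x' hx' hx'U)]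
    have hmem : ε.symm ((q.appLE W' W le_rfl).hom z) ∈ SymTen.TS Γ(S, V) Γ(C, U) n := fun σ => by
      have h1 := hεσ σ.symm (ε.symm ((q.appLE W' W le_rfl).hom z))
      rw [ε.apply_symm_apply, (hrange _).mp ⟨z, rfl⟩ σ.symm, Equiv.symm_symm] at h1
      exact ε.injective (h1.symm.trans (ε.apply_symm_apply _).symm)
    have h2 := hTS _ hmem
    show ((WidePullback.lift t x hx).appLE W ⊤ _).hom ((q.appLE W' W le_rfl).hom z) =
      ((WidePullback.lift t x' hx').appLE W ⊤ _).hom ((q.appLE W' W le_rfl).hom z)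
    rw [← ε.apply_symm_apply ((q.appLE W' W le_rfl).hom z)]
    exact h2
  haveI : IsIso (isAffineOpen_top Z).fromSpec := by rw [IsAffineOpen.fromSpec_top]; infer_instance
  rw [← cancel_epi (isAffineOpen_top Z).fromSpec,
    ← IsAffineOpen.SpecMap_appLE_fromSpec (WidePullback.lift t x hx ≫ q) hW'a (isAffineOpen_top Z) (hqW x hx hxU),
    ← IsAffineOpen.SpecMap_appLE_fromSpec (WidePullback.lift t x' hx' ≫ q) hW'a (isAffineOpen_top Z) (hqW x' hx' hx'U),
    happ]

/-- The sum of the graphs determines the image in the symmetric power. -/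
theorem quot_eq [SmoothOfRelativeDimension 1 f] [IsSeparated f] (hAF : SymProd.IsAF f)
    (hq : SymProd.IsSymProd f n q g) (T : Over S) (x x' : Fin n → (T.left ⟶ C))
    (hx : ∀ i, x i ≫ f = T.hom) (hx' : ∀ i, x' i ≫ f = T.hom)
    (heq : ∏ i, HilbD.secGraph f T (x i) (hx i) = ∏ i, HilbD.secGraph f T (x' i) (hx' i)) :
    WidePullback.lift T.hom x hx ≫ q = WidePullback.lift T.hom x' hx' ≫ q := by
  refine RLpsi8.GluePoint.hom_ext_of_fromSpecStalk _ _ fun z => ?_
  let j := T.left.fromSpecStalk z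
  let u : Over.mk (j ≫ T.hom) ⟶ T := Over.homMk j rfl
  have h := congrArg (HilbD.pull f u) heq
  rw [pull_prod_secGraph, pull_prod_secGraph] at h
  have key := quot_eq_local (B := T.left.presheaf.stalk z) hAF hq (j ≫ T.hom) (fun i => j ≫ x i)
    (fun i => j ≫ x' i) (fun i => by rw [Category.assoc, hx]) (fun i => by rw [Category.assoc, hx']) h
  have hl : ∀ (y : Fin n → (T.left ⟶ C)) (hy : ∀ i, y i ≫ f = T.hom),
      WidePullback.lift (j ≫ T.hom) (fun i => j ≫ y i) (fun i => by rw [Category.assoc, hy]) =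
        j ≫ WidePullback.lift T.hom y hy := fun y hy => by
    apply WidePullback.hom_ext
    · intro i; rw [WidePullback.lift_π, Category.assoc, WidePullback.lift_π]
    · rw [WidePullback.lift_base, Category.assoc, WidePullback.lift_base]
  rw [hl x hx, hl x' hx', Category.assoc, Category.assoc] at key
  exact key

end GrothLib.SymHilb26
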