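import Groth.Agent.Lib.SymHilb26.Rep
import Groth.Agent.Lib.SGA1Quot21.ExistsGlue
import Groth.Agent.Lib.FinAff13.Main
import Groth.Agent.Lib.Chev28.IrredDim
import Groth.Agent.Lib.DimCut.Product
import Groth.Agent.Lib.LocProp.SmoothDescendScheme
import Groth.Prelude.Def_Curve
import Mathlib.AlgebraicGeometry.Morphisms.Proper

/-!
Symmetric powers of curves over a field.
-/

universe u

open CategoryTheory CategoryTheory.Limits AlgebraicGeometry

set_option maxHeartbeats 400000
set_option backward.isDefEq.respectTransparency false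

namespace GrothLib.SymHilb26

/-- Symmetric powers exist under (AF). -/
theorem exists_symProd {C S : Scheme.{u}} {f : C ⟶ S} (hAF : SymProd.IsAF f) (n : ℕ) :
    ∃ (Y : Scheme.{u}) (q : SymProd.fibPow f n ⟶ Y) (g : Y ⟶ S), SymProd.IsSymProd f n q g := by
  obtain ⟨Y, q, hq⟩ := SGA1Quot21.exists_quot (ρ := SymProd.permActU f n) (fun x => by
    obtain ⟨U, hU, h⟩ := SymAF26.exists_affineOpen_orbit n hAF x
    exact ⟨U, hU, fun σ => by rw [SymProd.permActU_hom]; exact h σ.down⟩)
  obtain ⟨g, hg, -⟩ := SGA1Quot21.existsUnique_desc hq (WidePullback.base _) (fun σ => by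
    rw [SymProd.permActU_hom, SymProd.permHom_base])
  exact ⟨Y, q, g, hq, hg⟩

/-- A separated one-dimensional scheme satisfies (AF). -/
theorem isAF_of_dim_le_one {C S : Scheme.{u}} (f : C ⟶ S) [C.IsSeparated] [IsLocallyNoetherian C]
    (hdim : topologicalKrullDim C ≤ 1) : SymProd.IsAF f := fun _ T _ => by
  obtain ⟨V, hV, h⟩ := FinAff13.exists_affine_of_finite T.finite_toSet
    fun y _ => (Chev28.dim_stalk_le_dim y).trans hdim
  exact ⟨V, hV, fun x hx => h (Finset.mem_coe.mpr hx)⟩

/-- The symmetric power of a smooth proper curve is proper and smooth. -/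
theorem isProper_smooth {C S Y : Scheme.{u}} [IsLocallyNoetherian S] {f : C ⟶ S} [IsProper f]
    [SmoothOfRelativeDimension 1 f] (hAF : SymProd.IsAF f) {n : ℕ} {q : SymProd.fibPow f n ⟶ Y} {g : Y ⟶ S}
    (hq : SymProd.IsSymProd f n q g) : IsProper g ∧ Smooth g := by
  haveI : Smooth f := SmoothOfRelativeDimension.smooth (n := 1) f
  obtain ⟨hfin, hflat, -, -⟩ := SymAF26.isFinLocFree_quot hAF hq
  obtain ⟨-, hlft⟩ := SymAF26.finite_quot hq
  haveI : IsProper (q ≫ g) := by
    rw [hq.over]; exact SymAF26.prop_base f @IsProper inferInstance n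
  haveI : Smooth (q ≫ g) := by
    rw [hq.over]; exact SymAF26.prop_base f @Smooth inferInstance n
  haveI : Surjective q := ⟨SGA1Quot21.surjective hq.isQuot⟩
  haveI : IsSeparated g := SGA1Quot21.isSeparated_of_comp hq.isQuot g
  haveI : QuasiCompact g := SGA1Quot21.quasiCompact_of_comp hq.isQuot g
  haveI : UniversallyClosed g := UniversallyClosed.of_comp_surjective q g
  haveI : LocallyOfFinitePresentation g := inferInstance
  refine ⟨{}, Scheme.Hom.smoothLocus_eq_top_iff.mp (top_le_iff.mp fun y _ => ?_)⟩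
  obtain ⟨x, rfl⟩ := Surjective.surj (f := q) y
  refine LocProp.mem_smoothLocus_descends q g x (Flat.stalkMap q x) ?_
  rw [Scheme.Hom.smoothLocus_eq_top (q ≫ g)]
  trivial

end GrothLib.SymHilb26
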