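import Groth.Agent.Lib.SymHilb26.Universal
import Groth.Agent.Lib.FppfSource.Scheme

/-!
The map adding a point to a universal divisor on a smooth curve, and smoothness of the spaces of divisors.
-/

universe u

open CategoryTheory CategoryTheory.Limits AlgebraicGeometry

set_option maxHeartbeats 400000
set_option backward.isDefEq.respectTransparency false

namespace GrothLib.SymHilb26

variable {X S : Scheme.{u}} (f : X ⟶ S) [SmoothOfRelativeDimension 1 f] [IsSeparated f]

/-- The base change of a smooth curve is a smooth curve. -/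
theorem curve_XTproj (T : Over S) : SmoothOfRelativeDimension 1 (PicF.XTproj f T) ∧ IsSeparated (PicF.XTproj f T) :=
  ⟨(smoothOfRelativeDimension_isStableUnderBaseChange 1).of_isPullback (IsPullback.of_hasPullback f T.hom)
    inferInstance, MorphismProperty.pullback_snd _ _ inferInstance⟩

/-- Pullback of divisors is multiplicative. -/
theorem pull_mul {T T' : Over S} (g : T' ⟶ T) (A B : (PicF.XT f T).IdealSheafData) :
    HilbD.pull f g (A * B) = HilbD.pull f g A * HilbD.pull f g B := by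
  rw [HilbFun.pull_eq_comap, HilbFun.pull_eq_comap, HilbFun.pull_eq_comap, GrothLib.BlowUp.comap_mul]

/-- The map adding a point to the universal divisor is finite locally free. -/
theorem addPoint_finLocFree (d : ℕ) (H : Over S) (Z : HilbD.Obj f d H) (hZ : HilbD.IsUniversal f d H Z)
    (H' : Over S) (Z' : HilbD.Obj f (d + 1) H') (hZ' : HilbD.IsUniversal f (d + 1) H' Z')
    (m : Over.mk (pullback.fst H.hom f ≫ H.hom) ⟶ H')
    (hm : HilbD.pull f m Z'.1 =
      HilbD.pull f (Over.homMk (pullback.fst H.hom f) rfl : Over.mk (pullback.fst H.hom f ≫ H.hom) ⟶ H) Z.1 *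
        HilbD.secGraph f (Over.mk (pullback.fst H.hom f ≫ H.hom)) (pullback.snd H.hom f) pullback.condition.symm) :
    Mor2.IsFinLocFreeOfDeg (d + 1) m.left := by
  let T := Over.mk (pullback.fst H.hom f ≫ H.hom)
  let p : T ⟶ H := Over.homMk (pullback.fst H.hom f) rfl
  let x : T.left ⟶ X := pullback.snd H.hom f
  have hxf : x ≫ f = T.hom := pullback.condition.symm
  have hm' : HilbD.pull f m Z'.1 = HilbD.pull f p Z.1 * HilbD.secGraph f T x hxf := hm
  let u : Z'.1.subscheme ⟶ H'.left := Z'.1.subschemeι ≫ PicF.XTproj f H'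
  let W : Over S := Over.mk (u ≫ H'.hom)
  let g : W ⟶ H' := Over.homMk u rfl
  let y : W.left ⟶ X := Z'.1.subschemeι ≫ pullback.fst f H'.hom
  have hy : y ≫ f = W.hom := by simp [y, W, u, PicF.XTproj, pullback.condition]
  -- the tautological point lies on the pulled back divisor
  have hle : HilbD.pull f g Z'.1 ≤ HilbD.secGraph f W y hy := by
    rw [HilbFun.pull_eq_comap, ← Scheme.IdealSheafData.le_map_iff_comap_le, HilbD.secGraph,
      ← Scheme.Hom.ker_comp]
    rw [show pullback.lift y (𝟙 W.left) (by simpa using hy) ≫ PicF.XTmap f g = Z'.1.subschemeι from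
      pullback.hom_ext (by simp [PicF.XTmap, y]) (by simp [PicF.XTmap, g, u, PicF.XTproj]; exact Category.id_comp _),
      Scheme.IdealSheafData.ker_subschemeι]
  obtain ⟨hW, hW'⟩ := curve_XTproj f W
  obtain ⟨I, hI, hgI⟩ := GrothLib.RelDiv.exists_difference (PicF.XTproj f W) hle
    (HilbFun.secGraph_mem f W y hy) (HilbFun.isFinLocFreeOfDeg_pull f g Z'.2)
  rw [Nat.add_sub_cancel] at hI
  obtain ⟨h, hh, -⟩ := hZ W ⟨I, hI⟩
  let ψ : W.left ⟶ T.left := pullback.lift h.left y (by rw [Over.w h, hy])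
  let Ψ : W ⟶ T := Over.homMk ψ (by simp [ψ, T])
  have hΨp : Ψ ≫ p = h := Over.OverMorphism.ext (by simp [Ψ, p, ψ])
  have hψx : ψ ≫ x = y := pullback.lift_snd _ _ _
  have hΨm : Ψ ≫ m = g := by
    refine (hZ' W ⟨_, HilbFun.isFinLocFreeOfDeg_pull f g Z'.2⟩).unique ?_ rfl
    rw [← HilbFun.pull_pull, hm', pull_mul, HilbFun.pull_pull, hΨp, HilbFun.pull_secGraph]
    show _ = HilbD.pull f g Z'.1
    rw [hgI, hh, mul_comm]
    congr 1
    congr 1
  -- the inverse map
  let j : T.left ⟶ PicF.XT f T := pullback.lift x (𝟙 T.left) (by simpa using hxf)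
  haveI : IsClosedImmersion j := HilbFun.isClosedImmersion_graph f T x hxf
  have hk : Z'.1.subschemeι.ker ≤ (j ≫ PicF.XTmap f m).ker := by
    rw [Scheme.IdealSheafData.ker_subschemeι, Scheme.Hom.ker_comp,
      Scheme.IdealSheafData.le_map_iff_comap_le, ← HilbFun.pull_eq_comap, hm']
    exact fun U => Ideal.mul_le_right
  let θ : T.left ⟶ W.left := IsClosedImmersion.lift Z'.1.subschemeι (j ≫ PicF.XTmap f m) hk
  have hθ : θ ≫ Z'.1.subschemeι = j ≫ PicF.XTmap f m := IsClosedImmersion.lift_fac _ _ hk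
  have hθu : θ ≫ u = m.left := by
    simp [u, reassoc_of% hθ, j, PicF.XTmap, PicF.XTproj]
    exact Category.id_comp _
  have hθy : θ ≫ y = x := by simp [y, reassoc_of% hθ, j, PicF.XTmap]
  have hψθ : ψ ≫ θ = 𝟙 _ := by
    rw [← cancel_mono Z'.1.subschemeι, Category.assoc, hθ, Category.id_comp]
    refine pullback.hom_ext ?_ ?_
    · simp [j, PicF.XTmap, ψ, y, x]
    · simp [j, PicF.XTmap]
      exact congrArg CommaMorphism.left hΨm
  let Θ : T ⟶ W := Over.homMk θ (by simp [W, reassoc_of% hθu]; rfl)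
  have hθψ : θ ≫ ψ = 𝟙 _ := by
    have hΘg : Θ ≫ g = m := Over.OverMorphism.ext hθu
    have key : HilbD.secGraph f T x hxf * HilbD.pull f (Θ ≫ h) Z.1 =
        HilbD.secGraph f T x hxf * HilbD.pull f p Z.1 := by
      calc _ = HilbD.pull f Θ (HilbD.secGraph f W y hy) * HilbD.pull f Θ I := by
            rw [← HilbFun.pull_pull, hh, HilbFun.pull_secGraph]
            congr 2
            exact hθy.symm
        _ = HilbD.pull f m Z'.1 := by rw [← pull_mul, ← hgI, HilbFun.pull_pull, hΘg]
        _ = _ := by rw [hm', mul_comm]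
    obtain ⟨hT1, hT2⟩ := curve_XTproj f T
    have hc := GrothLib.RelDiv.isEffCartierIdeal_of_isFinLocFree (PicF.XTproj f T)
      (HilbFun.secGraph_mem f T x hxf).1
    have e : Θ ≫ h = p := (hZ T ⟨_, HilbFun.isFinLocFreeOfDeg_pull f p Z.2⟩).unique
      (GrothLib.RelDiv.eq_of_mul_eq_mul_left hc key) rfl
    refine pullback.hom_ext ?_ ?_
    · rw [Category.id_comp, Category.assoc, pullback.lift_fst]
      exact congrArg CommaMorphism.left e
    · rw [Category.id_comp, Category.assoc, pullback.lift_snd]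
      exact hθy
  haveI : IsIso θ := ⟨ψ, hθψ, hψθ⟩
  rw [← hθu]
  obtain ⟨⟨h1, h2, h3⟩, h4⟩ := Z'.2
  haveI : IsFinite u := h1
  haveI : Flat u := h2
  haveI : LocallyOfFinitePresentation u := h3
  refine ⟨⟨inferInstance, inferInstance, inferInstance⟩, fun z => ?_⟩
  rw [Scheme.Hom.finrank_of_isPullback θ (θ ≫ u) u (𝟙 _) (IsPullback.of_horiz_isIso ⟨by simp⟩)]
  simpa using h4 z

/-- The spaces of divisors on a smooth curve are smooth. -/
theorem smooth_universal (hrep : ∀ e : ℕ, HilbD.Representable f e) :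
    ∀ (d : ℕ) (H : Over S) (Z : HilbD.Obj f d H), HilbD.IsUniversal f d H Z → Smooth H.hom
  | 0, H, Z, hZ => by
    let o : Over S := Over.mk (𝟙 S)
    have hmem : ∀ T : Over S, Mor2.IsFinLocFreeOfDeg 0
        ((⊤ : (PicF.XT f T).IdealSheafData).subschemeι ≫ PicF.XTproj f T) := fun T => deg_top _
    obtain ⟨g, -, -⟩ := hZ o ⟨⊤, hmem o⟩
    have h2 : (Over.homMk H.hom : H ⟶ o) ≫ g = 𝟙 H :=
      (hZ H Z).unique
        ((GrothLib.RelDiv.eq_top_of_deg_zero _ (HilbFun.isFinLocFreeOfDeg_pull f _ Z.2)).trans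
          (GrothLib.RelDiv.eq_top_of_deg_zero _ Z.2).symm) (HilbFun.pull_id f _)
    have e1 : H.hom ≫ g.left = 𝟙 H.left := congrArg CommaMorphism.left h2
    have e2 : g.left ≫ H.hom = 𝟙 S := Over.w g
    haveI : IsIso H.hom := ⟨g.left, e1, e2⟩
    infer_instance
  | d + 1, H', Z', hZ' => by
    obtain ⟨H, Z, hZ⟩ := hrep d
    haveI := smooth_universal hrep d H Z hZ
    haveI : Smooth f := SmoothOfRelativeDimension.smooth (n := 1) f
    let T : Over S := Over.mk (pullback.fst H.hom f ≫ H.hom)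
    obtain ⟨hT1, hT2⟩ := curve_XTproj f T
    obtain ⟨m, hm, -⟩ := hZ' T ⟨_, GrothLib.RelDiv.isFinLocFreeOfDeg_mul (PicF.XTproj f T)
      (HilbFun.isFinLocFreeOfDeg_pull f (Over.homMk (pullback.fst H.hom f) rfl : T ⟶ H) Z.2)
      (HilbFun.secGraph_mem f T (pullback.snd H.hom f) pullback.condition.symm)⟩
    obtain ⟨⟨h1, h2, h3⟩, h4⟩ := addPoint_finLocFree f d H Z hZ H' Z' hZ' m hm
    haveI : Surjective m.left := (Scheme.Hom.one_le_finrank_iff_surjective m.left).mp fun s => by
      show 1 ≤ m.left.finrank s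
      rw [h4 s]; omega
    haveI : Smooth (m.left ≫ H'.hom) := by
      rw [Over.w m]
      show Smooth (pullback.fst H.hom f ≫ H.hom)
      infer_instance
    exact GrothLib.FppfSource.fppfSourceDescends_smooth m.left H'.hom h2 h3 inferInstance inferInstance

end GrothLib.SymHilb26
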