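import Mathlib.LinearAlgebra.Charpoly.ToMatrix
import Mathlib.LinearAlgebra.Determinant
import Mathlib.RingTheory.Flat.Stability
import Mathlib.RingTheory.LocalRing.Module
import Mathlib.RingTheory.Ideal.Quotient.Operations

/-!
The characteristic polynomial of a function on a sum of sections.
-/

universe u

open Polynomial

set_option maxHeartbeats 400000

namespace GrothLib.SymHilb26

section

variable {R V : Type u} [CommRing R] [AddCommGroup V] [Module R V] [Module.Finite R V]
  (W : Submodule R V) [Module.Free R W] [Module.Finite R W] [Module.Free R (V ⧸ W)] [Module.Free R V]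

open Module.Basis in
/-- The characteristic polynomial is multiplicative along an invariant submodule. -/
theorem charpoly_eq_mul (e : V →ₗ[R] V) (he : W ≤ W.comap e) :
    e.charpoly = (e.restrict he).charpoly * (W.mapQ W e he).charpoly := by
  classical
  let m := Module.Free.ChooseBasisIndex R W
  let bW : Module.Basis m R W := Module.Free.chooseBasis R W
  let n := Module.Free.ChooseBasisIndex R (V ⧸ W)
  let bQ : Module.Basis n R (V ⧸ W) := Module.Free.chooseBasis R (V ⧸ W)
  let b := sumQuot bW bQ
  let A : Matrix m m R := LinearMap.toMatrix bW bW (e.restrict he)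
  let B : Matrix m n R := Matrix.of fun i l ↦
    ((sumQuot bW bQ).repr (e ((sumQuot bW bQ) (Sum.inr l)))) (Sum.inl i)
  let D : Matrix n n R := LinearMap.toMatrix bQ bQ (W.mapQ W e he)
  suffices LinearMap.toMatrix b b e = Matrix.fromBlocks A B 0 D by
    rw [← LinearMap.charpoly_toMatrix e b, this, ← LinearMap.charpoly_toMatrix (e.restrict he) bW,
      ← LinearMap.charpoly_toMatrix (W.mapQ W e he) bQ, Matrix.charpoly_fromBlocks_zero₂₁]
  ext u v
  cases u with
  | inl i =>
    cases v with
    | inl k =>
      simp only [b, sumQuot_inl, Matrix.fromBlocks_apply₁₁, A, LinearMap.toMatrix_apply]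
      apply sumQuot_repr_inl_of_mem
    | inr l => simp [b, LinearMap.toMatrix_apply, Matrix.fromBlocks_apply₁₂, B]
  | inr j =>
    cases v with
    | inl k =>
      suffices W.mkQ (e (bW k)) = 0 by simp [LinearMap.toMatrix_apply, b, this]
      rw [← LinearMap.mem_ker, Submodule.ker_mkQ]
      exact he (Submodule.coe_mem (bW k))
    | inr l =>
      simp only [LinearMap.toMatrix_apply, sumQuot_repr_inr,
        Matrix.fromBlocks_apply₂₂, b, D]
      rw [← sumQuot_inr bW bQ l, W.mapQ_apply]
      simp

/-- The characteristic polynomial of a scalar. -/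
theorem charpoly_scalar {M : Type u} [AddCommGroup M] [Module R M] [Module.Free R M] [Module.Finite R M]
    [Nontrivial R] (c : R) : (c • LinearMap.id : M →ₗ[R] M).charpoly = (X - C c) ^ Module.finrank R M := by
  classical
  let b := Module.Free.chooseBasis R M
  rw [← LinearMap.charpoly_toMatrix _ b, map_smul, LinearMap.toMatrix_id, Matrix.smul_one_eq_diagonal,
    Matrix.charpoly_diagonal, Finset.prod_const, Finset.card_univ, Module.finrank_eq_card_chooseBasisIndex]

end

/-- On a module filtered by sections, the characteristic polynomial of multiplication is the product over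
the sections. -/
theorem charpoly_prod {B P : Type u} [CommRing B] [IsLocalRing B] [CommRing P] [Algebra B P] {n : ℕ}
    (e : Fin n → P →ₐ[B] B)
    (hfree : ∀ s : Finset (Fin n), Module.Free B (P ⧸ ∏ i ∈ s, RingHom.ker (e i)) ∧
      Module.Finite B (P ⧸ ∏ i ∈ s, RingHom.ker (e i)) ∧
      Module.finrank B (P ⧸ ∏ i ∈ s, RingHom.ker (e i)) = s.card) (a : P) :
    ∀ s : Finset (Fin n), haveI := (hfree s).1; haveI := (hfree s).2.1;
      ((Algebra.lmul B (P ⧸ ∏ i ∈ s, RingHom.ker (e i))) (Ideal.Quotient.mk (∏ i ∈ s, RingHom.ker (e i)) a)).charpoly =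
        ∏ i ∈ s, (X - C (e i a)) := by
  classical
  intro s
  induction s using Finset.induction_on with
  | empty =>
    haveI := (hfree ∅).1; haveI := (hfree ∅).2.1
    rw [Finset.prod_empty (f := fun i => X - C (e i a))]
    refine (LinearMap.charpoly_monic _).natDegree_eq_zero.mp ?_
    rw [LinearMap.charpoly_natDegree, (hfree ∅).2.2, Finset.card_empty]
  | insert i s hi ih =>
    haveI := (hfree s).1; haveI := (hfree s).2.1
    haveI := (hfree (insert i s)).1; haveI := (hfree (insert i s)).2.1
    let M := P ⧸ ∏ j ∈ insert i s, RingHom.ker (e j)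
    let N := P ⧸ ∏ j ∈ s, RingHom.ker (e j)
    have hle : ∏ j ∈ insert i s, RingHom.ker (e j) ≤ ∏ j ∈ s, RingHom.ker (e j) := by
      rw [Finset.prod_insert hi]
      exact Ideal.mul_le_right (I := RingHom.ker (e i)) (J := ∏ j ∈ s, RingHom.ker (e j))
    let π : M →ₗ[B] N := (Ideal.Quotient.factorₐ B hle).toLinearMap
    have hπ : Function.Surjective π := Ideal.Quotient.factor_surjective hle
    let W := LinearMap.ker π
    obtain ⟨sec, hsec⟩ := Module.projective_lifting_property π LinearMap.id hπ
    haveI : Module.Finite B W := Module.Finite.of_surjective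
      ((LinearMap.id - sec.comp π).codRestrict W fun x => by
        show π (x - sec (π x)) = 0
        rw [map_sub, show π (sec (π x)) = π x from LinearMap.congr_fun hsec (π x), sub_self])
      fun w => ⟨w.1, Subtype.ext (by
        show w.1 - sec (π w.1) = w.1
        rw [show π w.1 = 0 from w.2, map_zero, sub_zero])⟩
    haveI : Module.Projective B W := Module.Projective.of_split W.subtype
      ((LinearMap.id - sec.comp π).codRestrict W fun x => by
        show π (x - sec (π x)) = 0
        rw [map_sub, show π (sec (π x)) = π x from LinearMap.congr_fun hsec (π x), sub_self])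
      (LinearMap.ext fun w => Subtype.ext (by
        show w.1 - sec (π w.1) = w.1
        rw [show π w.1 = 0 from w.2, map_zero, sub_zero]))
    haveI : Module.Free B W := Module.free_of_flat_of_isLocalRing
    let eq : (M ⧸ W) ≃ₗ[B] N := π.quotKerEquivOfSurjective hπ
    haveI : Module.Free B (M ⧸ W) := Module.Free.of_equiv eq.symm
    let L : M →ₗ[B] M := Algebra.lmul B M (Ideal.Quotient.mk _ a)
    have hL : ∀ x, π (L x) = Algebra.lmul B N (Ideal.Quotient.mk _ a) (π x) := fun x => by
      show Ideal.Quotient.factorₐ B hle (Ideal.Quotient.mk _ a * x) =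
        Ideal.Quotient.mk _ a * Ideal.Quotient.factorₐ B hle x
      rw [map_mul]; rfl
    have he : W ≤ W.comap L := fun x hx => by
      show π (L x) = 0
      rw [hL, show π x = 0 from hx, map_zero]
    have hrest : L.restrict he = e i a • (LinearMap.id : W →ₗ[B] W) := LinearMap.ext fun w => Subtype.ext (by
      obtain ⟨x, hx⟩ := Ideal.Quotient.mk_surjective w.1
      have hxJ : x ∈ ∏ j ∈ s, RingHom.ker (e j) := by
        have h0 : π w.1 = 0 := w.2
        rw [← hx] at h0
        exact Ideal.Quotient.eq_zero_iff_mem.mp h0
      show Ideal.Quotient.mk _ a * w.1 = e i a • w.1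
      rw [← hx, Algebra.smul_def, IsScalarTower.algebraMap_apply B P M, Ideal.Quotient.algebraMap_eq,
        ← map_mul, ← map_mul, Ideal.Quotient.eq, ← sub_mul, Finset.prod_insert hi]
      refine Ideal.mul_mem_mul ?_ hxJ
      rw [RingHom.mem_ker, map_sub, AlgHom.commutes]
      exact sub_self _)
    have hmapQ : eq.conj (W.mapQ W L he) = Algebra.lmul B N (Ideal.Quotient.mk _ a) := LinearMap.ext fun y => by
      obtain ⟨x, rfl⟩ := hπ y
      rw [LinearEquiv.conj_apply_apply]
      have h1 : eq.symm (π x) = Submodule.Quotient.mk x := eq.symm_apply_eq.mpr rfl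
      rw [h1, Submodule.mapQ_apply]
      exact hL x
    have key : L.charpoly = (X - C (e i a)) ^ Module.finrank B W * ∏ j ∈ s, (X - C (e j a)) := by
      rw [charpoly_eq_mul W L he, hrest, charpoly_scalar, ← eq.charpoly_conj, hmapQ, ih]
    have hdeg := congrArg natDegree key
    rw [LinearMap.charpoly_natDegree, (hfree (insert i s)).2.2, Finset.card_insert_of_notMem hi,
      ((monic_X_sub_C _).pow _).natDegree_mul (monic_prod_of_monic _ _ fun j _ => monic_X_sub_C _),
      (monic_X_sub_C _).natDegree_pow, natDegree_X_sub_C,
      natDegree_prod_of_monic _ _ fun j _ => monic_X_sub_C _] at hdeg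
    simp only [natDegree_X_sub_C, Finset.sum_const, smul_eq_mul, mul_one] at hdeg
    rw [show Module.finrank B W = 1 by omega, pow_one] at key
    rw [Finset.prod_insert hi (f := fun j => X - C (e j a))]
    exact key

end GrothLib.SymHilb26
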