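import Groth.Agent.Lib.SymHilb26.Indep
import Mathlib.AlgebraicGeometry.Sites.Fpqc

/-!
The symmetric power of a smooth curve represents the Hilbert functor of points.
-/

universe u

open CategoryTheory CategoryTheory.Limits AlgebraicGeometry

set_option maxHeartbeats 1000000
set_option backward.isDefEq.respectTransparency false

namespace GrothLib.SymHilb26

/-- Inclusions of ideal sheaves descend along fppf morphisms. -/
theorem le_of_comap_le {X Y : Scheme.{u}} (Q : X ⟶ Y) [Flat Q] [Surjective Q] [LocallyOfFinitePresentation Q]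
    {I J : Y.IdealSheafData} (h : I.comap Q ≤ J.comap Q) : I ≤ J := by
  let c := pullback.fst J.subschemeι Q
  let w := pullback.snd J.subschemeι Q
  have hw : J.comap Q = w.ker := by
    rw [Scheme.IdealSheafData.comap, ← pullbackSymmetry_hom_comp_snd, Scheme.Hom.ker_comp_of_isIso]
  have hle : (I.comap Q).subschemeι.ker ≤ w.ker := by
    rw [Scheme.IdealSheafData.ker_subschemeι, ← hw]; exact h
  let a : pullback J.subschemeι Q ⟶ I.subscheme :=
    IsClosedImmersion.lift (I.comap Q).subschemeι w hle ≫ (I.comapIso Q).hom ≫ pullback.snd _ _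
  have ha : a ≫ I.subschemeι = c ≫ J.subschemeι := by
    simp only [a, Category.assoc, ← pullback.condition, Scheme.IdealSheafData.comapIso_hom_fst_assoc,
      IsClosedImmersion.lift_fac_assoc]
    exact pullback.condition.symm
  have hcomp : ∀ {Z : Scheme.{u}} (g₁ g₂ : Z ⟶ pullback J.subschemeι Q), g₁ ≫ c = g₂ ≫ c → g₁ ≫ a = g₂ ≫ a := by
    intro Z g₁ g₂ h12
    rw [← cancel_mono I.subschemeι, Category.assoc g₁ a, Category.assoc g₂ a, ha, reassoc_of% h12]
  let d := EffectiveEpi.desc c a hcomp
  have hd : d ≫ I.subschemeι = J.subschemeι := by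
    rw [← cancel_epi c, ← Category.assoc, EffectiveEpi.fac c a hcomp, ha]
  calc I = I.subschemeι.ker := (Scheme.IdealSheafData.ker_subschemeι I).symm
    _ ≤ (d ≫ I.subschemeι).ker := Scheme.Hom.le_ker_comp _ _
    _ = J := by rw [hd, Scheme.IdealSheafData.ker_subschemeι]

variable {C S Y : Scheme.{u}} {f : C ⟶ S} {n : ℕ} {q : SymProd.fibPow f n ⟶ Y} {g : Y ⟶ S}

/-- A closed family is determined by its pullback along an fppf cover. -/
theorem eq_of_pull_eq {T T' : Over S} (v : T' ⟶ T) [Flat v.left] [Surjective v.left]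
    [LocallyOfFinitePresentation v.left] {I J : (PicF.XT f T).IdealSheafData}
    (h : HilbD.pull f v I = HilbD.pull f v J) : I = J := by
  rw [HilbFun.pull_eq_comap, HilbFun.pull_eq_comap] at h
  have H := (HilbFun.isPullback_XTmap f v).flip
  haveI : Flat (PicF.XTmap f v) := MorphismProperty.of_isPullback H ‹Flat v.left›
  haveI : Surjective (PicF.XTmap f v) := MorphismProperty.of_isPullback H ‹Surjective v.left›
  haveI : LocallyOfFinitePresentation (PicF.XTmap f v) :=
    MorphismProperty.of_isPullback H ‹LocallyOfFinitePresentation v.left›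
  exact le_antisymm (le_of_comap_le _ h.le) (le_of_comap_le _ h.ge)

/-- A family which splits into sections pulls back to a sum of graphs. -/
theorem pull_sections [IsSeparated f] {T : Over S} {S' : Scheme.{u}} (b : S' ⟶ T.left)
    (J : (PicF.XT f T).IdealSheafData) (σ : Fin n → (S' ⟶ pullback (pullback.snd f T.hom) b))
    (hσ : ∀ i, σ i ≫ pullback.snd (pullback.snd f T.hom) b = 𝟙 S')
    (hprod : J.comap (pullback.fst (pullback.snd f T.hom) b) = ∏ i, (σ i).ker)
    (x : Fin n → (S' ⟶ C)) (hx : ∀ i, x i ≫ f = b ≫ T.hom)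
    (hxσ : ∀ i, σ i ≫ pullback.fst (pullback.snd f T.hom) b ≫ pullback.fst f T.hom = x i) :
    HilbD.pull f (Over.homMk b rfl : Over.mk (b ≫ T.hom) ⟶ T) J =
      ∏ i, HilbD.secGraph f (Over.mk (b ≫ T.hom)) (x i) (hx i) := by
  have hm : PicF.XTmap f (Over.homMk b rfl : Over.mk (b ≫ T.hom) ⟶ T) =
      (pullbackLeftPullbackSndIso f T.hom b).inv ≫ pullback.fst (pullback.snd f T.hom) b := by
    refine pullback.hom_ext ?_ ?_
    · rw [Category.assoc, pullbackLeftPullbackSndIso_inv_fst]
      simp [PicF.XTmap]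
    · rw [Category.assoc, pullback.condition, ← Category.assoc, pullbackLeftPullbackSndIso_inv_snd_snd]
      simp [PicF.XTmap]
  rw [HilbFun.pull_eq_comap, hm]
  refine (Scheme.IdealSheafData.comap_comp _ _ _).trans ?_
  rw [hprod, comap_prod]
  refine Finset.prod_congr rfl fun i _ => ?_
  haveI := (deg_section (pullback.snd (pullback.snd f T.hom) b) (σ i) (hσ i)).1
  haveI : IsIso (𝟙 S' : (Over.mk (b ≫ T.hom)).left ⟶ S') := IsIso.id S'
  refine HilbFun.comap_ker (σ i) (q := (𝟙 S' : (Over.mk (b ≫ T.hom)).left ⟶ S')) (IsPullback.of_vert_isIso ⟨?_⟩)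
  rw [Iso.comp_inv_eq]
  refine pullback.hom_ext ?_ ?_
  · refine (pullback.lift_fst _ _ _).trans ?_
    simp only [Category.assoc]
    erw [pullbackLeftPullbackSndIso_hom_fst, Category.id_comp]
    exact (hxσ i).symm
  · refine (pullback.lift_snd _ _ _).trans ?_
    simp only [Category.assoc]
    erw [pullbackLeftPullbackSndIso_hom_snd, hσ]
    rfl

/-- The symmetric power represents the Hilbert functor of points. -/
theorem exists_universal [IsLocallyNoetherian S] [IsProper f] [SmoothOfRelativeDimension 1 f]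
    (hAF : SymProd.IsAF f) (hq : SymProd.IsSymProd f n q g) :
    ∃ D : HilbD.Obj f n (Over.mk g), HilbD.IsUniversal f n (Over.mk g) D := by
  classical
  obtain ⟨hqfin, hqflat, hqlfp, -⟩ := SymAF26.isFinLocFree_quot hAF hq
  haveI : Surjective q := ⟨SGA1Quot21.surjective hq.isQuot⟩
  obtain ⟨⟨J, hJ, -⟩, hdeg⟩ := descended_divisor hAF hq
  let b₀ := WidePullback.base (fun _ : Fin n => f)
  let π := fun i => WidePullback.π (fun _ : Fin n => f) i
  let D : (PicF.XT f (Over.mk g)).IdealSheafData := J.comap (pullbackSymmetry f g).hom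
  have hDdeg : Mor2.IsFinLocFreeOfDeg n (D.subschemeι ≫ PicF.XTproj f (Over.mk g)) :=
    deg_comap (b := 𝟙 Y) (IsPullback.of_horiz_isIso ⟨by
      show (pullbackSymmetry f g).hom ≫ pullback.fst g f = pullback.snd f g ≫ 𝟙 Y
      rw [pullbackSymmetry_hom_comp_fst, Category.comp_id]⟩) (hdeg J hJ)
  let qOver : Over.mk b₀ ⟶ Over.mk g := Over.homMk q hq.over
  have hD : HilbD.pull f qOver D = ∏ i, HilbD.secGraph f (Over.mk b₀) (π i) (WidePullback.π_arrow _ i) := by
    have hm : PicF.XTmap f qOver ≫ (pullbackSymmetry f g).hom = (pullbackSymmetry f b₀).hom ≫ qC hq := by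
      refine pullback.hom_ext ?_ ?_
      · rw [Category.assoc, Category.assoc, pullback.lift_fst]
        erw [pullbackSymmetry_hom_comp_fst, pullback.lift_snd, pullbackSymmetry_hom_comp_fst_assoc]
        rfl
      · rw [Category.assoc, Category.assoc, pullback.lift_snd]
        erw [pullbackSymmetry_hom_comp_snd, pullback.lift_fst, Category.comp_id, Category.comp_id,
          pullbackSymmetry_hom_comp_snd]
        rfl
    rw [HilbFun.pull_eq_comap, ← Scheme.IdealSheafData.comap_comp]
    refine (congrArg J.comap hm).trans ?_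
    rw [Scheme.IdealSheafData.comap_comp, hJ, comap_prod]
    refine Finset.prod_congr rfl fun i _ => ?_
    haveI := (deg_section (pullback.fst b₀ f) (graph f n i) (pullback.lift_fst _ _ _)).1
    refine HilbFun.comap_ker (graph f n i) (q := 𝟙 _) (IsPullback.of_vert_isIso ⟨?_⟩)
    refine pullback.hom_ext ?_ ?_
    · rw [Category.assoc, pullbackSymmetry_hom_comp_fst, Category.id_comp, pullback.lift_fst]
      erw [pullback.lift_snd]
      rfl
    · rw [Category.assoc, pullbackSymmetry_hom_comp_snd, Category.id_comp, pullback.lift_snd]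
      erw [pullback.lift_fst]
  have hpoint : ∀ (T : Over S) (x : Fin n → (T.left ⟶ C)) (hx : ∀ i, x i ≫ f = T.hom),
      HilbD.pull f (Over.homMk (WidePullback.lift T.hom x hx ≫ q)
        (by show _ ≫ g = _; rw [Category.assoc, hq.over, WidePullback.lift_base]) : T ⟶ Over.mk g) D =
        ∏ i, HilbD.secGraph f T (x i) (hx i) := by
    intro T x hx
    let l : T ⟶ Over.mk b₀ := Over.homMk (WidePullback.lift T.hom x hx) (WidePullback.lift_base _ _ _ _)
    have : (Over.homMk (WidePullback.lift T.hom x hx ≫ q)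
        (by show _ ≫ g = _; rw [Category.assoc, hq.over, WidePullback.lift_base]) : T ⟶ Over.mk g) = l ≫ qOver :=
      Over.OverMorphism.ext rfl
    rw [this, ← HilbFun.pull_pull, hD, pull_prod_secGraph]
    refine Finset.prod_congr rfl fun i _ => ?_
    congr 1
    exact WidePullback.lift_π _ _ _ _ i
  refine ⟨⟨D, hDdeg⟩, fun T Z' => ?_⟩
  let fT := pullback.snd f T.hom
  haveI : SmoothOfRelativeDimension 1 fT :=
    (smoothOfRelativeDimension_isStableUnderBaseChange 1).of_isPullback (IsPullback.of_hasPullback f T.hom) inferInstance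
  obtain ⟨S', b, hb₁, hb₂, hb₃, σ, hσ, hprod⟩ := exists_split n fT Z'.1 Z'.2
  let v : Over.mk (b ≫ T.hom) ⟶ T := Over.homMk b rfl
  haveI : Flat v.left := hb₁
  haveI : Surjective v.left := hb₂
  haveI : LocallyOfFinitePresentation v.left := hb₃
  let x : Fin n → (S' ⟶ C) := fun i => σ i ≫ pullback.fst fT b ≫ pullback.fst f T.hom
  have hx : ∀ i, x i ≫ f = b ≫ T.hom := fun i => by
    simp only [x, Category.assoc, pullback.condition]
    rw [pullback.condition_assoc, reassoc_of% (hσ i)]
  have hZ : HilbD.pull f v Z'.1 = ∏ i, HilbD.secGraph f (Over.mk (b ≫ T.hom)) (x i) (hx i) :=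
    pull_sections b Z'.1 σ hσ hprod x hx fun i => rfl
  let a : S' ⟶ Y := WidePullback.lift (b ≫ T.hom) x hx ≫ q
  have hcomp : ∀ {W : Scheme.{u}} (g₁ g₂ : W ⟶ S'), g₁ ≫ b = g₂ ≫ b → g₁ ≫ a = g₂ ≫ a := by
    intro W g₁ g₂ h12
    let TW : Over S := Over.mk (g₁ ≫ b ≫ T.hom)
    let u₁ : TW ⟶ Over.mk (b ≫ T.hom) := Over.homMk g₁ rfl
    let u₂ : TW ⟶ Over.mk (b ≫ T.hom) := Over.homMk g₂ (by show g₂ ≫ b ≫ T.hom = _; rw [← reassoc_of% h12]; rfl)
    have huv : u₁ ≫ v = u₂ ≫ v := Over.OverMorphism.ext h12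
    have h := congrArg (fun w => HilbD.pull f w Z'.1) huv
    simp only [← HilbFun.pull_pull, hZ, pull_prod_secGraph] at h
    have key := quot_eq hAF hq TW (fun i => g₁ ≫ x i) (fun i => g₂ ≫ x i) _ _ h
    have hl : ∀ (g' : W ⟶ S') (hg : g' ≫ b ≫ T.hom = TW.hom),
        WidePullback.lift TW.hom (fun i => g' ≫ x i) (fun i => by rw [Category.assoc, hx, hg]) =
          g' ≫ WidePullback.lift (b ≫ T.hom) x hx := fun g' hg => by
      apply WidePullback.hom_ext
      · intro i; rw [WidePullback.lift_π, Category.assoc, WidePullback.lift_π]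
      · rw [WidePullback.lift_base, Category.assoc, WidePullback.lift_base, hg]
    erw [hl g₁ rfl, hl g₂ (by rw [← reassoc_of% h12]; rfl)] at key
    rwa [Category.assoc, Category.assoc] at key
  let d := EffectiveEpi.desc b a hcomp
  have hd : b ≫ d = a := EffectiveEpi.fac b a hcomp
  have hdg : d ≫ g = T.hom := by
    rw [← cancel_epi b, reassoc_of% hd, Category.assoc, hq.over, WidePullback.lift_base]
  refine ⟨Over.homMk d hdg, eq_of_pull_eq v ?_, fun d' hd' => ?_⟩
  · rw [HilbFun.pull_pull, hZ, ← hpoint (Over.mk (b ≫ T.hom)) x hx]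
    congr 1
    exact Over.OverMorphism.ext hd
  · haveI : Flat q := hqflat
    haveI : LocallyOfFinitePresentation q := hqlfp
    let c₁ := pullback.fst (b ≫ d'.left) q
    let x' : Fin n → (pullback (b ≫ d'.left) q ⟶ C) := fun i => pullback.snd _ q ≫ π i
    let TR : Over S := Over.mk (c₁ ≫ b ≫ T.hom)
    have hw : c₁ ≫ b ≫ d'.left = pullback.snd (b ≫ d'.left) q ≫ q := pullback.condition
    have hbase : pullback.snd (b ≫ d'.left) q ≫ b₀ = TR.hom := by
      rw [show b₀ = q ≫ g from hq.over.symm, ← reassoc_of% hw]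
      erw [Over.w d']
      rfl
    have hx' : ∀ i, x' i ≫ f = TR.hom := fun i => by
      rw [Category.assoc, WidePullback.π_arrow]; exact hbase
    have hsnd : WidePullback.lift TR.hom x' hx' = pullback.snd (b ≫ d'.left) q := by
      apply WidePullback.hom_ext
      · intro i; rw [WidePullback.lift_π]
      · rw [WidePullback.lift_base]; exact hbase.symm
    let u : TR ⟶ Over.mk (b ≫ T.hom) := Over.homMk c₁ rfl
    have h2 : HilbD.pull f (u ≫ v ≫ d') D = ∏ i, HilbD.secGraph f TR (x' i) (hx' i) := by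
      rw [← hpoint TR x' hx']
      congr 1
      apply Over.OverMorphism.ext
      show c₁ ≫ b ≫ d'.left = WidePullback.lift TR.hom x' hx' ≫ q
      rw [hsnd]
      exact hw
    rw [← HilbFun.pull_pull, ← HilbFun.pull_pull, hd', hZ, pull_prod_secGraph] at h2
    have key := quot_eq hAF hq TR (fun i => c₁ ≫ x i) x' _ _ h2
    have hl : WidePullback.lift TR.hom (fun i => c₁ ≫ x i) (fun i => by rw [Category.assoc, hx]; rfl) =
        c₁ ≫ WidePullback.lift (b ≫ T.hom) x hx := by
      apply WidePullback.hom_ext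
      · intro i; rw [WidePullback.lift_π, Category.assoc, WidePullback.lift_π]
      · rw [WidePullback.lift_base, Category.assoc, WidePullback.lift_base]; rfl
    erw [hl] at key
    rw [hsnd, Category.assoc] at key
    apply Over.OverMorphism.ext
    show d'.left = d
    rw [← cancel_epi b, ← cancel_epi c₁, hd]
    exact hw.trans key.symm

end GrothLib.SymHilb26
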