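import Groth.Agent.Lib.SymAF26.TensorInv
import Mathlib.RingTheory.TensorProduct.Basic
import Mathlib.FieldTheory.IsAlgClosed.AlgebraicClosure
import Mathlib.Algebra.Polynomial.Roots
import Mathlib.RingTheory.LocalRing.ResidueField.Basic

/-!
A product of non-zero functionals does not kill the symmetric tensors of a flat module.
-/

universe u

open TensorProduct

set_option maxHeartbeats 400000

namespace GrothLib.SymHilb26

variable {R : Type u} [CommRing R] {A : Type u} [AddCommGroup A] [Module R A] {n : ℕ}

/-- The product of linear forms on the tensor power. -/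
noncomputable def prodLift {L : Type u} [CommRing L] [Algebra R L] (ℓ : Fin n → (A →ₗ[R] L)) :
    (⨂[R] _ : Fin n, A) →ₗ[R] L :=
  PiTensorProduct.lift ((MultilinearMap.mkPiAlgebra R (Fin n) L).compLinearMap ℓ)

@[simp]
theorem prodLift_tprod {L : Type u} [CommRing L] [Algebra R L] (ℓ : Fin n → (A →ₗ[R] L)) (a : Fin n → A) :
    prodLift ℓ (PiTensorProduct.tprod R a) = ∏ i, ℓ i (a i) := by
  simp [prodLift]

/-- Over an infinite field, a product of non-zero forms does not vanish on the symmetric tensors. -/
theorem exists_symm_ne_zero [Module.Flat R A] (K : Type u) [Field K] [Infinite K] [Algebra R K]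
    (ℓ : Fin n → (A →ₗ[R] K)) (hℓ : ∀ i, ℓ i ≠ 0) :
    ∃ t ∈ PolLaw.symTensor R A n, prodLift ℓ t ≠ 0 := by
  classical
  have hex : ∀ i, ∃ a, ℓ i a ≠ 0 := fun i => by
    by_contra h
    push Not at h
    exact hℓ i (LinearMap.ext h)
  choose a ha using hex
  let P : Polynomial K := ∏ i, ∑ j : Fin n, Polynomial.monomial (j : ℕ) (ℓ i (a j))
  have hP : P ≠ 0 := by
    refine Finset.prod_ne_zero_iff.mpr fun i _ h => ha i ?_
    have h' := congrArg (fun p => Polynomial.coeff p (i : ℕ)) h
    simpa [Polynomial.finsetSum_coeff, Polynomial.coeff_monomial, Fin.val_inj] using h'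
  obtain ⟨x, hx⟩ : ∃ x, P.eval x ≠ 0 := by
    by_contra h
    push Not at h
    exact hP (Polynomial.funext fun r => by simpa using h r)
  let lam : Fin n → K := fun j => x ^ (j : ℕ)
  let z : K ⊗[R] (⨂[R] _ : Fin n, A) :=
    ∑ φ : Fin n → Fin n, (∏ i, lam (φ i)) ⊗ₜ[R] PiTensorProduct.tprod R (fun i => a (φ i))
  have hz : ∀ σ : Equiv.Perm (Fin n),
      (PiTensorProduct.reindex R (fun _ : Fin n => A) σ).toLinearMap.lTensor K z = z := fun σ => by
    rw [map_sum]
    refine Fintype.sum_equiv (Equiv.arrowCongr σ (Equiv.refl _)) _ _ fun φ => ?_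
    rw [LinearMap.lTensor_tmul, LinearEquiv.coe_coe, PiTensorProduct.reindex_tprod]
    exact congrArg (· ⊗ₜ[R] _) (Fintype.prod_equiv σ _ _ fun i => by simp)
  obtain ⟨w, hw⟩ := SymAF26.mem_range_of_invariant K z hz
  let Λ : K ⊗[R] (⨂[R] _ : Fin n, A) →ₗ[R] K := (LinearMap.mul' R K).comp ((prodLift ℓ).lTensor K)
  have hΛz : Λ z = P.eval x := by
    simp only [z, map_sum, Λ, LinearMap.comp_apply, LinearMap.lTensor_tmul, LinearMap.mul'_apply,
      prodLift_tprod, P, Polynomial.eval_prod, Polynomial.eval_finsetSum, Polynomial.eval_monomial]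
    rw [Fintype.prod_sum]
    refine Finset.sum_congr rfl fun φ _ => ?_
    rw [← Finset.prod_mul_distrib]
    exact Finset.prod_congr rfl fun i _ => mul_comm _ _
  by_contra hall
  push Not at hall
  refine hx ?_
  rw [← hΛz, ← hw]
  clear hw hz hΛz
  induction w using TensorProduct.induction_on with
  | zero => simp
  | tmul c t => simp [Λ, hall t.1 t.2]
  | add u v hu hv => rw [map_add, map_add, hu, hv, add_zero]

/-- In a local ring, some symmetric tensor maps to a generator of the product of principal ideals spanned by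
the values of linear maps. -/
theorem exists_symm_generator [Module.Flat R A] (L : Type u) [CommRing L] [IsLocalRing L] [Algebra R L]
    (δ : Fin n → (A →ₗ[R] L)) (h : Fin n → L) (hreg : ∀ i, h i ∈ nonZeroDivisors L)
    (hspan : ∀ i, Ideal.span (Set.range (δ i)) = Ideal.span {h i}) :
    ∃ t ∈ PolLaw.symTensor R A n, Ideal.span {prodLift δ t} = Ideal.span {∏ i, h i} := by
  classical
  have hc : ∀ i a, ∃ c, δ i a = c * h i := fun i a => by
    have := (hspan i).le (Ideal.subset_span ⟨a, rfl⟩)
    obtain ⟨c, hc⟩ := Ideal.mem_span_singleton'.mp this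
    exact ⟨c, hc.symm⟩
  choose c hc using hc
  let cl : Fin n → (A →ₗ[R] L) := fun i =>
    { toFun := c i
      map_add' := fun a b => (mul_cancel_right_mem_nonZeroDivisors (hreg i)).1
        (by rw [← hc, map_add, hc, hc, add_mul])
      map_smul' := fun r a => (mul_cancel_right_mem_nonZeroDivisors (hreg i)).1
        (by rw [← hc, map_smul, hc, RingHom.id_apply, smul_mul_assoc]) }
  have hfac : ∀ t, prodLift δ t = prodLift cl t * ∏ i, h i := fun t => by
    induction t using PiTensorProduct.induction_on with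
    | smul_tprod r a => simp [hc, cl, Finset.prod_mul_distrib]
    | add u v hu hv => rw [map_add, map_add, hu, hv, add_mul]
  let K := AlgebraicClosure (IsLocalRing.ResidueField L)
  let π : L →+* K := (algebraMap _ K).comp (IsLocalRing.residue L)
  letI : Algebra R K := (π.comp (algebraMap R L)).toAlgebra
  let πl : L →ₐ[R] K := { π with commutes' := fun _ => rfl }
  have hπ : ∀ l, π l ≠ 0 → IsUnit l := fun l hl => by
    by_contra hu
    exact hl (by
      show algebraMap _ K (IsLocalRing.residue L l) = 0
      rw [(IsLocalRing.residue_eq_zero_iff l).mpr hu, map_zero])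
  have hℓ : ∀ i, πl.toLinearMap ∘ₗ cl i ≠ 0 := fun i h0 => by
    have hmem : h i ∈ Ideal.span (Set.range (δ i)) := (hspan i).ge (Ideal.mem_span_singleton_self _)
    obtain ⟨w, hw⟩ := (Finsupp.mem_ideal_span_range_iff_exists_finsupp).mp hmem
    have h1 : (w.sum fun a x => x * c i a) = 1 := by
      refine (mul_cancel_right_mem_nonZeroDivisors (hreg i)).1 ?_
      rw [one_mul, Finsupp.sum, Finset.sum_mul]
      simp only [mul_assoc, ← hc]
      exact hw
    have h2 := congrArg π h1
    rw [map_finsuppSum, map_one, Finsupp.sum, Finset.sum_eq_zero fun a _ => by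
      rw [map_mul, show π (c i a) = 0 from LinearMap.congr_fun h0 a, mul_zero]] at h2
    exact zero_ne_one h2
  obtain ⟨t, ht, ht0⟩ := exists_symm_ne_zero K (fun i => πl.toLinearMap ∘ₗ cl i) hℓ
  refine ⟨t, ht, ?_⟩
  have hpi : prodLift (fun i => πl.toLinearMap ∘ₗ cl i) t = π (prodLift cl t) := by
    show _ = πl (prodLift cl t)
    clear ht0
    refine LinearMap.congr_fun (PiTensorProduct.ext (MultilinearMap.ext fun a => ?_) :
      prodLift (fun i => πl.toLinearMap ∘ₗ cl i) = πl.toLinearMap ∘ₗ prodLift cl) t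
    simp
  rw [hfac, Ideal.span_singleton_mul_left_unit (hπ _ (hpi ▸ ht0))]

end GrothLib.SymHilb26
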